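import Cfsg.Agent.Lib.Classical.PauliForm.Herm.FourMove
import Cfsg.Agent.Lib.Classical.PauliMax.Data
import Cfsg.Agent.Lib.Classical.HermGen
import Cfsg.Agent.Lib.Classical.PauliFour.SU

/-!
# Unitary groups over a Pauli system of degree four

A group of similitudes containing the system and its quarter turns either normalises the system or contains all
unitary transvections.
-/

set_option autoImplicit false
set_option linter.unusedSectionVars false
set_option maxHeartbeats 800000

namespace CfsgLib.Classical.PauliForm.Herm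

open Module Matrix CfsgLib.Classical CfsgLib.Classical.PauliMax

universe u v

variable {F : Type u} [Field F] {V : Type v} [AddCommGroup V] [Module F V] [FiniteDimensional F V]

local notation "E" => Module.End F V

section form

variable {σ : F →+* F} {B : V →ₛₗ[σ] V →ₗ[F] F} {i : F} {R : Set (Module.End F V)}

/-- The matrix of an isometry in an orthonormal basis is unitary. -/
theorem adj_toMatrix_mul (bas : Basis (Fin 4) F V) (hb : ∀ k l, B (bas k) (bas l) = if k = l then 1 else 0) {f : E}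
    (hf : ∀ x y, B (f x) (f y) = B x y) :
    Clifford4.adj σ (LinearMap.toMatrixAlgEquiv bas f) * LinearMap.toMatrixAlgEquiv bas f = 1 := by
  ext k l
  have e : ∀ m, f (bas m) = ∑ n, LinearMap.toMatrixAlgEquiv bas f n m • bas n := fun m => by
    simp only [LinearMap.toMatrixAlgEquiv_apply]
    exact (bas.sum_repr _).symm
  rw [Matrix.one_apply, ← hb k l, ← hf (bas k) (bas l), e k, e l]
  simp only [map_sum, map_smulₛₗ, LinearMap.sum_apply, LinearMap.smul_apply, smul_eq_mul, hb, Clifford4.adj,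
    Matrix.mul_apply, Matrix.transpose_apply, Matrix.map_apply, RingHom.id_apply, mul_ite, mul_one, mul_zero,
    Finset.sum_ite_eq, Finset.sum_ite_eq', Finset.mem_univ, if_true]
  exact Finset.sum_congr rfl fun m _ => by ring

theorem adjoint_invol' {a : E} (haa : a * a = 1) (hai : ∀ x y, B (a x) (a y) = B x y) (x y : V) :
    B (a x) y = B x (a y) := by
  have e : a (a y) = y := LinearMap.congr_fun haa y
  conv_lhs => rw [← e]
  exact hai x (a y)

theorem quarter_form (hi : i * i = -1) (hσi : σ i = -i) {a : E} (haa : a * a = 1)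
    (hai : ∀ x y, B (a x) (a y) = B x y) (x y : V) : B (quarter i a x) (quarter i a y) = 2 * B x y := by
  simp only [quarter, LinearMap.add_apply, Module.End.one_apply, LinearMap.smul_apply, map_add, map_smul,
    map_smulₛₗ, hσi, smul_eq_mul, RingHom.id_apply, hai, adjoint_invol' haa hai]
  linear_combination (-(B x y)) * hi

variable (h : Pauli i R)
include h

theorem det_quarter [Nontrivial V] (h4 : finrank F V = 4) {a : E} (ha : a ∈ R) (haa : a * a = 1)
    (has : ¬ IsScalarMap a) : LinearMap.det (quarter i a) = 4 := by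
  classical
  obtain ⟨k, Bs, hk, hB⟩ := h.exists_half_basis ha haa has
  have hq : ∀ m, quarter i a (Bs m) = Sum.elim (fun _ => 1 + i) (fun _ => 1 - i) m • Bs m := by
    intro m
    rcases m with m | m <;>
      simp only [quarter, LinearMap.add_apply, Module.End.one_apply, LinearMap.smul_apply, hB, smul_smul,
        Sum.elim_inl, Sum.elim_inr] <;> match_scalars <;> ring
  rw [← LinearMap.det_toMatrix Bs]
  show (LinearMap.toMatrixAlgEquiv Bs _).det = 4
  rw [matrix_eq_diagonal Bs hq, Matrix.det_diagonal, Fintype.prod_sum_type]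
  simp only [Sum.elim_inl, Sum.elim_inr, Finset.prod_const, Finset.card_univ, Fintype.card_fin]
  rw [show k = 2 by omega]
  linear_combination (i * i - 3) * h.hi

/-- A product of two turns, scaled to determinant one. -/
theorem gate_spec [Nontrivial V] (h4 : finrank F V = 4) {Γ : Subgroup Eˣ} (hΓ : Ambient i R Γ) (hσi : σ i = -i)
    (hR : ∀ r ∈ R, ∀ x y, B (r x) (r y) = B x y) {d d' : E} (hd : d ∈ R) (hdd : d * d = 1) (hds : ¬ IsScalarMap d)
    (hd' : d' ∈ R) (hdd' : d' * d' = 1) (hds' : ¬ IsScalarMap d') :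
    InG Γ ((2 : F)⁻¹ • (quarter i d' * quarter i d)) ∧
      (∀ x y, B (((2 : F)⁻¹ • (quarter i d' * quarter i d)) x) (((2 : F)⁻¹ • (quarter i d' * quarter i d)) y) = B x y) ∧
      LinearMap.det ((2 : F)⁻¹ • (quarter i d' * quarter i d)) = 1 := by
  refine ⟨InG.smul hΓ ((hΓ.quarter d' hd' hdd').mul (hΓ.quarter d hd hdd)) (inv_ne_zero h.two_ne), fun x y => ?_, ?_⟩
  · simp only [LinearMap.smul_apply, map_smul, map_smulₛₗ, smul_eq_mul, RingHom.id_apply, map_inv₀, map_ofNat,
      Module.End.mul_apply, quarter_form h.hi hσi hdd' (hR _ hd'), quarter_form h.hi hσi hdd (hR _ hd)]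
    field_simp [h.two_ne]
  · rw [LinearMap.det_smul, map_mul, det_quarter h h4 hd' hdd' hds', det_quarter h h4 hd hdd hds, h4]
    field_simp [h.two_ne]
    ring

/-- Similitudes normalise the system when the isometries of determinant one in the group do. -/
theorem nor_of_special [Finite F] [Nontrivial V] (h4 : finrank F V = 4) {Γ : Subgroup Eˣ} (hΓ : Ambient i R Γ)
    (hσi : σ i = -i) (hR : ∀ r ∈ R, ∀ x y, B (r x) (r y) = B x y) (hRd : ∀ r ∈ R, LinearMap.det r = 1)
    (hK : ∀ f : E, InG Γ f → (∀ x y, B (f x) (f y) = B x y) → LinearMap.det f = 1 → Nor R f) {g : E}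
    (hg : InG Γ g) {μ : F} (hμ : μ ≠ 0) (hgs : ∀ x y, B (g x) (g y) = μ * B x y) : Nor R g := by
  classical
  haveI : Finite E := Module.finite_of_finite F
  haveI : Finite R := Finite.of_injective Subtype.val Subtype.val_injective
  obtain ⟨g', hg', h1, h2⟩ := hg.exists_inv
  have hgi : ∀ x y, B (g' x) (g' y) = μ⁻¹ * B x y := fun x y => by
    have ex : g (g' x) = x := LinearMap.congr_fun h1 x
    have ey : g (g' y) = y := LinearMap.congr_fun h1 y
    have := hgs (g' x) (g' y)
    rw [ex, ey] at this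
    rw [this, inv_mul_cancel_left₀ hμ]
  have hdet : ∀ {f : E}, LinearMap.det f = 1 → LinearMap.det (g' * f * g) = 1 := fun {f} hf => by
    rw [map_mul, map_mul, hf, mul_one, ← map_mul, h2, map_one]
  have hdet' : ∀ {f : E}, LinearMap.det f = 1 → LinearMap.det (g * f * g') = 1 := fun {f} hf => by
    rw [map_mul, map_mul, hf, mul_one, ← map_mul, h1, map_one]
  let P : E → Prop := fun y => g' * y * g ∈ R
  -- special isometries carry conjugates of members to conjugates of members
  have carry : ∀ {f y y' : E}, InG Γ f → (∀ x z, B (f x) (f z) = B x z) → LinearMap.det f = 1 → P y →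
      f * y = y' * f → P y' := fun {f y y'} hf hfi hfd hy e => by
    have hn := hK _ ((hg'.mul hf).mul hg) (fun x z => by
      simp only [Module.End.mul_apply, hgi, hfi, hgs, inv_mul_cancel_left₀ hμ]) (hdet hfd)
    obtain ⟨z, hz, ez⟩ := hn _ hy
    obtain ⟨f', -, f1, -⟩ := hf.exists_inv
    have e' : g' * y' * (f * g) = z * g' * (f * g) := by
      calc g' * y' * (f * g) = g' * (y' * f) * g := by simp only [mul_assoc]
        _ = g' * f * (g * g') * y * g := by rw [← e, h1, mul_one]; simp only [mul_assoc]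
        _ = g' * f * g * (g' * y * g) := by simp only [mul_assoc]
        _ = z * g' * (f * g) := by rw [ez]; simp only [mul_assoc]
    have e'' : g' * y' = z * g' := by
      have := congrArg (fun t => t * (g' * f')) e'
      simp only [mul_assoc] at this
      simpa only [← mul_assoc g g', h1, one_mul, f1, mul_one] using this
    show g' * y' * g ∈ R
    rwa [e'', mul_assoc, h2, mul_one]
  have Psmul : ∀ {w w' : E} {c : F}, P w → w ∈ R → w = c • w' → w' * w' = 1 → P w' := fun {w w' c} hw hwR e hww => by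
    obtain ⟨t, ht, et⟩ := h.sq_sign hwR
    rw [e, smul_mul_smul_comm, hww] at et
    have hct : c * c = t := by
      have : (c * c - t) • (1 : E) = 0 := by rw [sub_smul, et, sub_self]
      exact sub_eq_zero.1 ((smul_eq_zero.1 this).resolve_right one_ne_zero)
    have hc : c ≠ 0 := fun e0 => by rcases ht with rfl | rfl <;> simp [e0] at hct
    show g' * w' * g ∈ R
    rw [show w' = c⁻¹ • w by rw [e, inv_smul_smul₀ hc], mul_smul_comm, smul_mul_assoc]
    exact h.root_smul_mem hw (by
      rcases ht with rfl | rfl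
      · exact .inl (by rw [← mul_inv, hct, inv_one])
      · exact .inr (by rw [← mul_inv, hct, inv_neg, inv_one]))
  -- a member that is a conjugate of a member
  obtain ⟨q₀, hq₀, hq₀q, hq₀s, hq₀P⟩ : ∃ q ∈ R, q * q = 1 ∧ ¬ IsScalarMap q ∧ P q := by
    obtain ⟨a, b, c, e, Q⟩ := exists_quad h h4
    have has := h.not_scalar_of_anti Q.ha Q.hb Q.ab
    obtain ⟨s, hs⟩ : ∃ s, s = g * a * g' := ⟨_, rfl⟩
    have hsP : P s := by
      show g' * s * g ∈ R
      rw [hs, show g' * (g * a * g') * g = (g' * g) * a * (g' * g) by simp only [mul_assoc], h2, one_mul, mul_one]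
      exact Q.ha
    have hss : s * s = 1 := by rw [hs, conj_mul h2, Q.aa, mul_one, h1]
    have hsi : ∀ x y, B (s x) (s y) = B x y := fun x y => by
      simp only [hs, Module.End.mul_apply, hgs, hR a Q.ha, hgi, mul_inv_cancel_left₀ hμ]
    have hsn : Nor R s := hK s (hs ▸ (hg.mul (hΓ.mem a Q.ha)).mul hg') hsi (hs ▸ hdet' (hRd a Q.ha))
    have hsns : ¬ IsScalarMap s := by
      rintro ⟨k, hk⟩
      refine has ⟨k, ?_⟩
      calc a = (g' * g) * a * (g' * g) := by rw [h2, one_mul, mul_one]
        _ = g' * s * g := by rw [hs]; simp only [mul_assoc]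
        _ = k • 1 := by rw [hk, mul_smul_comm, mul_one, smul_mul_assoc, h2]
    by_cases hex : ∃ w ∈ R, ¬ IsScalarMap w ∧ P w
    · obtain ⟨w, hw, hws, hwP⟩ := hex
      obtain ⟨w', hw', hww, hws', k, -, ek⟩ := h.exists_invol hw hws
      exact ⟨w', hw', hww, hws', Psmul hwP hw ek hww⟩
    push Not at hex
    have hpm : ∀ r ∈ R, s * r = r * s ∨ s * r = -(r * s) := by
      intro r hr
      obtain ⟨t, ht, et⟩ := h.sq_sign hr
      have ht2 : t * t = 1 := by rcases ht with rfl | rfl <;> norm_num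
      obtain ⟨r', hr', er⟩ := hsn r hr
      have hr3 : t • r ∈ R := h.sign_smul_mem hr ht
      have h3 : t • r * r = 1 := by rw [smul_mul_assoc, et, smul_smul, ht2, one_smul]
      have hyP : P (r * s * (t • r)) := carry (hΓ.mem r hr) (hR r hr) (hRd r hr) hsP (by
        rw [mul_assoc (r * s), h3, mul_one])
      have hw : r * s * (t • r) * s = t • (r * r') := by
        rw [mul_smul_comm, smul_mul_assoc, mul_assoc r s r, er, ← mul_assoc r r' s, mul_assoc (r * r') s s, hss, mul_one]
      have hwR : r * s * (t • r) * s ∈ R := by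
        rw [hw]; exact h.sign_smul_mem (h.mul_mem _ hr _ hr') ht
      have hwP : P (r * s * (t • r) * s) := by
        show g' * _ * g ∈ R
        have : g' * (r * s * (t • r) * s) * g = g' * (r * s * (t • r)) * g * (g' * s * g) := by
          calc g' * (r * s * (t • r) * s) * g = g' * (r * s * (t • r)) * (g * g') * s * g := by
                rw [h1, mul_one]; simp only [mul_assoc]
            _ = _ := by simp only [mul_assoc]
        rw [this]
        exact h.mul_mem _ hyP _ hsP
      obtain ⟨k, hk⟩ := not_not.1 fun hns => hex _ hwR hns hwP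
      rw [hw] at hk
      have er' : r' = k • r := by
        calc r' = (t • r * r) * r' := by rw [h3, one_mul]
          _ = r * (t • (r * r')) := by rw [mul_smul_comm, smul_mul_assoc, smul_mul_assoc, mul_assoc]
          _ = k • r := by rw [hk, mul_smul_comm, mul_one]
      rw [er', smul_mul_assoc] at er
      have hk2 : (k * k - 1) • (r * r) = 0 := by
        have e1 : s * r * (s * r) = s * (r * (s * r)) := mul_assoc _ _ _
        have e2 : s * (r * r) * s = (r * r) := by rw [et, mul_smul_comm, mul_one, smul_mul_assoc, hss]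
        have e3 : s * (r * r) * s = (k * k) • (r * r) := by
          calc s * (r * r) * s = s * r * (r * s) := by simp only [mul_assoc]
            _ = k • (r * s * (r * s)) := by rw [er, smul_mul_assoc]
            _ = k • (r * (s * r) * s) := by simp only [mul_assoc]
            _ = (k * k) • (r * r) := by
              rw [er, mul_smul_comm, smul_mul_assoc, smul_smul, mul_assoc r, mul_assoc r, hss, mul_one]
        rw [sub_smul, one_smul, ← e3, e2, sub_self]
      rcases mul_self_eq_one_iff.1 (sub_eq_zero.1 ((smul_eq_zero.1 hk2).resolve_right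
        (h.ne_zero (h.mul_mem _ hr _ hr)))) with rfl | rfl
      · exact .inl (by rw [er, one_smul])
      · exact .inr (by rw [er, neg_smul, one_smul])
    obtain ⟨r, hr, k, hk, ek⟩ := h.exists_line' (fun e0 => by simp [e0] at hss) hpm
    have hsR : s ∈ R := by rw [ek] at hss ⊢; exact h.mem_of_smul hr hss
    exact absurd hsP (hex s hsR hsns)
  -- every involution of the system is a conjugate of a member
  have hall : ∀ x ∈ R, x * x = 1 → ¬ IsScalarMap x → P x := by
    intro x hx hxx hxs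
    have one : ∀ {d d' : E}, d ∈ R → d * d = 1 → ¬ IsScalarMap d → d' ∈ R → d' * d' = 1 → ¬ IsScalarMap d' →
        quarter i d' * quarter i d * q₀ = x * (quarter i d' * quarter i d) → P x :=
      fun {d d'} hd hdd hds hd' hdd' hds' e => by
        obtain ⟨hG, hGi, hGd⟩ := gate_spec h h4 hΓ hσi hR hd hdd hds hd' hdd' hds'
        exact carry hG hGi hGd hq₀P (by rw [smul_mul_assoc, e, mul_smul_comm])
    rcases h.comm q₀ hq₀ x hx with e | e
    · obtain ⟨w₀, hw₀, e1, e2⟩ := h.exists_anti_both hq₀ hq₀s hx hxs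
      obtain ⟨w, hw, hww, -, hr⟩ := exists_invol_rel h hw₀ (h.not_scalar_of_anti hw₀ hq₀ (by rw [e1, neg_neg]))
      have f1 := hr q₀ (-1) (by rw [neg_smul, one_smul, e1, neg_neg])
      have f2 := hr x (-1) (by rw [neg_smul, one_smul, e2, neg_neg])
      rw [neg_smul, one_smul] at f1 f2
      obtain ⟨d, hd, hdd, hds, hdm, -⟩ := exists_turn h hq₀ hq₀q hw hww (by rw [f1, neg_neg])
      obtain ⟨d', hd', hdd', hds', hdm', -⟩ := exists_turn h hw hww hx hxx f2
      exact one hd hdd hds hd' hdd' hds' (by rw [mul_assoc, hdm, ← mul_assoc, hdm', mul_assoc])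
    · obtain ⟨d, hd, hdd, hds, hdm, -⟩ := exists_turn h hq₀ hq₀q hx hxx e
      refine one hd hdd hds hx hxx hxs ?_
      rw [mul_assoc, hdm, ← mul_assoc, ← quarter_comm (i := i) (a := x) (f := x) rfl, mul_assoc]
  have hsub : ∀ x ∈ R, P x := by
    intro x hx
    by_cases hxs : IsScalarMap x
    · obtain ⟨k, rfl⟩ := hxs
      show g' * (k • 1) * g ∈ R
      rwa [mul_smul_comm, mul_one, smul_mul_assoc, h2]
    · obtain ⟨x', hx', hxx, hxs', k, hk, ek⟩ := h.exists_invol hx hxs
      obtain ⟨t, ht, et⟩ := h.sq_sign hx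
      show g' * x * g ∈ R
      rw [ek, mul_smul_comm, smul_mul_assoc]
      refine h.root_smul_mem (hall x' hx' hxx hxs') ?_
      rw [ek, smul_mul_smul_comm, hxx] at et
      have : (k * k - t) • (1 : E) = 0 := by rw [sub_smul, et, sub_self]
      rw [sub_eq_zero.1 ((smul_eq_zero.1 this).resolve_right one_ne_zero)]
      exact ht
  intro x hx
  have hbij : Function.Bijective fun y : R => (⟨g' * y * g, hsub y y.2⟩ : R) :=
    Finite.injective_iff_bijective.1 fun y z e => Subtype.ext (by
      have := congrArg (fun w : R => g * (w : E) * g') e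
      simpa only [mul_assoc, h1, mul_one, ← mul_assoc g g', one_mul] using this)
  obtain ⟨⟨z, hz⟩, e⟩ := hbij.2 ⟨x, hx⟩
  refine ⟨z, hz, ?_⟩
  have e' : g' * z * g = x := congrArg Subtype.val e
  rw [← e', ← mul_assoc, ← mul_assoc, h1, one_mul]

end form

/-- The dichotomy in degree four. -/
theorem unitary_four_dichotomy {F : Type u} [Field F] [Finite F] {p : ℕ} (hp : p.Prime)
    (hF : Nat.card F = p ^ 2) (h4p : p % 4 = 3) {σ : F →+* F} (hσ : ∀ x, σ x = x ^ p)
    {V : Type v} [AddCommGroup V] [Module F V] [FiniteDimensional F V] {B : V →ₛₗ[σ] V →ₗ[F] F}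
    (hB : IsHermitian B) (hN : B.SeparatingRight) (h4 : finrank F V = 4) {i : F}
    {R : Set (Module.End F V)} (h : Pauli i R) (hR : ∀ r ∈ R, ∀ u v, B (r u) (r v) = B u v)
    {Γ : Subgroup (Module.End F V)ˣ} (hΓ : Ambient i R Γ)
    (hsim : ∀ g : Module.End F V, InG Γ g → ∃ μ : F, μ ≠ 0 ∧ ∀ u v, B (g u) (g v) = μ * B u v) :
    (∀ g : Module.End F V, InG Γ g → Nor R g) ∨
      ∀ (w : V) (c : F), B w w = 0 → c + σ c = 0 → InG Γ (1 + c • (B w).smulRight w) := by
  classical
  haveI : Fintype F := Fintype.ofFinite F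
  haveI : Nontrivial V := Module.nontrivial_of_finrank_pos (R := F) (by omega)
  have hK : Fintype.card F = p ^ 2 := by rw [← Nat.card_eq_fintype_card, hF]
  have hσi : σ i = -i := by
    obtain ⟨k, hk⟩ : ∃ k, p = 2 * (2 * k) + 3 := ⟨p / 4, by omega⟩
    rw [hσ, hk, pow_add, pow_mul i 2, pow_mul (i ^ 2) 2, pow_two i, h.hi, neg_one_sq, one_pow, one_mul, pow_succ,
      pow_two, h.hi, neg_one_mul]
  obtain ⟨bas₀, hbas₀⟩ := hB.exists_orthonormal hN
  obtain ⟨bas, hbas⟩ : ∃ bas : Basis (Fin 4) F V, ∀ k l, B (bas k) (bas l) = if k = l then 1 else 0 :=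
    ⟨bas₀.reindex (finCongr h4), fun k l => by simp [hbas₀]⟩
  set ψ : Module.End F V ≃ₐ[F] Matrix (Fin 4) (Fin 4) F := LinearMap.toMatrixAlgEquiv bas with hψ
  have hdet : ∀ f : Module.End F V, (ψ f).det = LinearMap.det f := fun f => LinearMap.det_toMatrix bas f
  obtain ⟨Φ, hΦ⟩ : ∃ Φ : GL (Fin 4) F →* (Module.End F V)ˣ, ∀ g : GL (Fin 4) F,
      (Φ g : Module.End F V) = ψ.symm (g : Matrix (Fin 4) (Fin 4) F) :=
    ⟨Units.map ψ.symm.toAlgHom.toRingHom.toMonoidHom, fun g => rfl⟩
  have toGL : ∀ {f : Module.End F V}, IsUnit f → ∃ g : GL (Fin 4) F, (g : Matrix (Fin 4) (Fin 4) F) = ψ f := fun hf =>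
    ⟨(hf.map ψ).unit, rfl⟩
  have memGU : ∀ {g : GL (Fin 4) F} {f : Module.End F V}, (g : Matrix (Fin 4) (Fin 4) F) = ψ f →
      (∀ x y, B (f x) (f y) = B x y) → g ∈ Cfsg.GU 4 F p := fun {g f} e hf => by
    rw [Clifford4.mem_GU_iff_adj hσ, e]
    exact adj_toMatrix_mul bas hbas hf
  have memSL : ∀ {g : GL (Fin 4) F}, g ∈ Cfsg.Geo.specialLinear (Fin 4) F ↔
      (g : Matrix (Fin 4) (Fin 4) F).det = 1 := fun {g} => by
    rw [Cfsg.Geo.specialLinear, MonoidHom.mem_ker, Units.ext_iff]; rfl
  -- the system as a group of matrices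
  let R' : Subgroup (GL (Fin 4) F) :=
    { carrier := {g | ψ.symm (g : Matrix (Fin 4) (Fin 4) F) ∈ R}
      one_mem' := by show ψ.symm _ ∈ R; rw [Units.val_one, map_one]; exact h.one_mem
      mul_mem' := fun {g k} hg hk => by
        show ψ.symm _ ∈ R; rw [Units.val_mul, map_mul]; exact h.mul_mem _ hg _ hk
      inv_mem' := fun {g} hg => by
        show ψ.symm _ ∈ R
        have hx : ψ.symm (g : Matrix (Fin 4) (Fin 4) F) ∈ R := hg
        obtain ⟨t, ht, et⟩ := h.sq_sign hx
        have ht2 : t * t = 1 := by rcases ht with rfl | rfl <;> norm_num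
        have e : ψ.symm ((g⁻¹ : GL (Fin 4) F) : Matrix (Fin 4) (Fin 4) F) = t • ψ.symm (g : Matrix (Fin 4) (Fin 4) F) := by
          refine (h.isUnit hx).mul_left_cancel ?_
          rw [← map_mul, Units.mul_inv, map_one, mul_smul_comm, et, smul_smul, ht2, one_smul]
        rw [e]; exact h.sign_smul_mem hx ht }
  have memR' : ∀ {g : GL (Fin 4) F}, g ∈ R' ↔ ψ.symm (g : Matrix (Fin 4) (Fin 4) F) ∈ R := fun {g} => Iff.rfl
  have hset : ∀ {f : Module.End F V}, f ∈ R → ψ f ∈ Cfsg.Geo.matrixSet R' := fun {f} hf => by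
    obtain ⟨g, hg⟩ := toGL (h.isUnit hf)
    exact ⟨g, memR'.2 (by rwa [hg, AlgEquiv.symm_apply_apply]), hg⟩
  obtain ⟨a, b, c, e, Q⟩ := exists_quad h h4
  have hs : ∀ {f : Module.End F V}, f * f = 1 → ψ (i • f) * ψ (i • f) = -1 := fun {f} hf => by
    rw [← map_mul, smul_mul_smul_comm, h.hi, hf, neg_one_smul, map_neg, map_one]
  have hfr : Clifford4.Frame (ψ a) (ψ b) (ψ (i • c)) (ψ (i • e)) :=
    { card := Fintype.card_fin 4
      two := h.two_ne
      sqa := .inl (by rw [← map_mul, Q.aa, map_one])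
      sqb := .inl (by rw [← map_mul, Q.bb, map_one])
      sqc := .inr (hs Q.cc)
      sqd := .inr (hs Q.ee)
      ab := by rw [← map_mul, Q.ab, map_neg, map_mul]
      cd := by rw [← map_mul, ← map_mul, smul_mul_smul_comm, smul_mul_smul_comm, Q.ce, smul_neg, map_neg]
      ac := by rw [← map_mul, ← map_mul, smul_mul_assoc, mul_smul_comm, Q.ac]
      ad := by rw [← map_mul, ← map_mul, smul_mul_assoc, mul_smul_comm, Q.ae]
      bc := by rw [← map_mul, ← map_mul, smul_mul_assoc, mul_smul_comm, Q.bc]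
      bd := by rw [← map_mul, ← map_mul, smul_mul_assoc, mul_smul_comm, Q.be] }
  have hstd : Clifford4.Std (ψ a) (ψ b) (ψ (i • c)) (ψ (i • e)) :=
    ⟨hfr, by rw [← map_mul, Q.aa, map_one], by rw [← map_mul, Q.bb, map_one], hs Q.cc, hs Q.ee⟩
  have hf : Clifford4.FrameIn R' (ψ a) (ψ b) (ψ (i • c)) (ψ (i • e)) := by
    refine ⟨hstd, hset Q.ha, hset Q.hb, hset (h.i_smul_mem Q.hc), hset (h.i_smul_mem Q.he), ?_⟩
    rintro _ ⟨g, hg, rfl⟩
    have hm : ∀ v, Clifford4.prodOf (ψ a) (ψ b) (ψ (i • c)) (ψ (i • e)) v ∈ Cfsg.Geo.matrixSet R' := fun v =>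
      Clifford4.mem_mul (Clifford4.mem_pairProd (hset Q.ha) (hset Q.hb) _)
        (Clifford4.mem_pairProd (hset (h.i_smul_mem Q.hc)) (hset (h.i_smul_mem Q.he)) _)
    obtain ⟨v, hv⟩ : ∃ v, Matrix.trace ((g : Matrix (Fin 4) (Fin 4) F) *
        Clifford4.prodOf (ψ a) (ψ b) (ψ (i • c)) (ψ (i • e)) v) ≠ 0 := by
      by_contra hcon
      push Not at hcon
      have hle : Submodule.span F (Set.range (Clifford4.prodOf (ψ a) (ψ b) (ψ (i • c)) (ψ (i • e)))) ≤
          LinearMap.ker ((Matrix.traceLinearMap (Fin 4) F F) ∘ₗ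
            LinearMap.mulLeft F (g : Matrix (Fin 4) (Fin 4) F)) := Submodule.span_le.2 (by
        rintro _ ⟨v, rfl⟩; exact hcon v)
      rw [hfr.span_eq_top] at hle
      refine g.isUnit.ne_zero (Matrix.ext fun k l => ?_)
      have := hle (Submodule.mem_top (x := Matrix.single l k (1 : F)))
      simpa [Matrix.trace, Matrix.mul_apply, Matrix.single_apply, Finset.sum_ite_eq, ite_and] using this
    obtain ⟨k, hk, ek⟩ := hm v
    rw [← ek] at hv
    have htr : LinearMap.trace F V (ψ.symm (k : Matrix (Fin 4) (Fin 4) F) * ψ.symm (g : Matrix (Fin 4) (Fin 4) F)) ≠ 0 := by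
      rw [LinearMap.trace_eq_matrix_trace F bas]
      show (ψ _).trace ≠ 0
      rw [← map_mul, AlgEquiv.apply_symm_apply, Matrix.trace_mul_comm]
      exact hv
    obtain ⟨s, hs'⟩ := h.eq_smul_of_trace (memR'.1 hk) (memR'.1 hg) htr
    refine ⟨v, s, ?_⟩
    change (g : Matrix (Fin 4) (Fin 4) F) = _
    rw [← ek, ← ψ.apply_symm_apply (g : Matrix (Fin 4) (Fin 4) F), hs', map_smul, ψ.apply_symm_apply]
  have him : i • (1 : Matrix (Fin 4) (Fin 4) F) ∈ Cfsg.Geo.matrixSet R' := by
    have := hset h.i_mem; rwa [map_smul, map_one] at this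
  have hRU : R' ≤ Cfsg.GU 4 F p := fun g hg =>
    memGU (ψ.apply_symm_apply _).symm (hR _ (memR'.1 hg))
  have hexp : ∀ g ∈ R', g ^ 4 = 1 := fun g hg => by
    obtain ⟨t, ht, et⟩ := h.sq_sign (memR'.1 hg)
    refine Units.ext (ψ.symm.injective ?_)
    rw [Units.val_pow_eq_pow_val, map_pow, Units.val_one, map_one, pow_succ, pow_three, ← mul_assoc, et, mul_assoc,
      et, smul_mul_smul_comm, one_mul]
    rcases ht with rfl | rfl <;> norm_num
  obtain ⟨P₀, hP₀⟩ := PauliFour.exists_basis hstd h.hi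
  have hRd : ∀ r ∈ R, LinearMap.det r = 1 := fun r hr => by
    obtain ⟨g, hg⟩ := toGL (h.isUnit hr)
    rw [← hdet, ← hg]
    exact PauliFour.det_of_frame hf h.hi hexp hP₀ (memR'.2 (by rwa [hg, AlgEquiv.symm_apply_apply]))
  set G₀ := Cfsg.GU 4 F p ⊓ Cfsg.Geo.specialLinear (Fin 4) F with hG₀
  have hnor : ∀ {g : GL (Fin 4) F}, g ∈ Cfsg.Geo.subgroupNormalizer R' ↔
      Nor R (ψ.symm (g : Matrix (Fin 4) (Fin 4) F)) := by
    intro g
    haveI : Finite R' := inferInstance
    constructor
    · intro hg x hx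
      obtain ⟨k, hk⟩ := toGL (h.isUnit hx)
      rw [Cfsg.Geo.subgroupNormalizer, Subgroup.mem_normalizer_iff] at hg
      refine ⟨_, memR'.1 ((hg k).1 (memR'.2 (by rwa [hk, AlgEquiv.symm_apply_apply]))), ?_⟩
      rw [← map_mul, ← ψ.symm_apply_apply x, ← hk, ← map_mul, ← Units.val_mul, ← Units.val_mul, inv_mul_cancel_right]
    · intro hg
      have hmaps : ∀ k ∈ R', g * k * g⁻¹ ∈ R' := by
        intro k hk
        obtain ⟨y, hy, ey⟩ := hg _ (memR'.1 hk)
        refine memR'.2 ?_
        rw [Units.val_mul, Units.val_mul, map_mul, map_mul, ey, mul_assoc, ← map_mul, Units.mul_inv, map_one, mul_one]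
        exact hy
      have hbij : Function.Bijective fun k : R' => (⟨g * k * g⁻¹, hmaps k k.2⟩ : R') :=
        Finite.injective_iff_bijective.1 fun k l ekl => Subtype.ext (by simpa using congrArg Subtype.val ekl)
      rw [Cfsg.Geo.subgroupNormalizer, Subgroup.mem_normalizer_iff]
      refine fun k => ⟨hmaps k, fun hk => ?_⟩
      obtain ⟨⟨l, hl⟩, el⟩ := hbij.2 ⟨_, hk⟩
      have el' : g * l * g⁻¹ = g * k * g⁻¹ := congrArg Subtype.val el
      rwa [← mul_left_cancel (mul_right_cancel el')]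
  obtain ⟨-, hmax⟩ := PauliFour.unitary_maximal_frame hp hK h4p h.hi him hf hRU hexp
  have hle : Cfsg.Geo.subgroupNormalizer R' ⊓ G₀ ≤ Γ.comap Φ ⊓ G₀ := fun g hg => by
    refine ⟨?_, hg.2⟩
    obtain ⟨γ, hγ, eγ⟩ := inG_of_nor h h4 hΓ (hΦ g ▸ (Φ g).isUnit) (hnor.1 hg.1)
    show Φ g ∈ Γ
    rw [show Φ g = γ from Units.ext (by rw [hΦ, eγ])]
    exact hγ
  -- special isometries of the group as matrices
  have lift : ∀ {f : Module.End F V}, InG Γ f → (∀ x y, B (f x) (f y) = B x y) → LinearMap.det f = 1 →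
      ∃ g : GL (Fin 4) F, g ∈ Γ.comap Φ ⊓ G₀ ∧ ψ.symm (g : Matrix (Fin 4) (Fin 4) F) = f := by
    rintro f ⟨γ, hγ, rfl⟩ hfi hfd
    obtain ⟨g, hg⟩ := toGL γ.isUnit
    refine ⟨g, ⟨?_, memGU hg hfi, memSL.2 (by rw [hg, hdet, hfd])⟩, by rw [hg, AlgEquiv.symm_apply_apply]⟩
    show Φ g ∈ Γ
    rw [show Φ g = γ from Units.ext (by rw [hΦ, hg, AlgEquiv.symm_apply_apply])]
    exact hγ
  rcases hmax _ hle inf_le_right with hM | hM
  · left
    intro g hg
    obtain ⟨μ, hμ, hgs⟩ := hsim g hg
    refine nor_of_special h h4 hΓ hσi hR hRd (fun f hf hfi hfd => ?_) hg hμ hgs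
    obtain ⟨k, hk, rfl⟩ := lift hf hfi hfd
    exact hnor.1 (hM.le hk).1
  · right
    intro w t hw ht
    set T : Module.End F V := 1 + t • (B w).smulRight w with hT
    have hTd : LinearMap.det T = 1 := by
      have : T = LinearMap.transvection (t • B w) w := LinearMap.ext fun x => by
        simp [hT, LinearMap.transvection.apply, smul_smul]
      rw [this, LinearMap.transvection.det]
      simp [hw]
    have hTa : ∀ x, T x = x + (t * B w x) • w := fun x => by simp [hT, smul_smul]
    have hTi : ∀ x y, B (T x) (T y) = B x y := fun x y => by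
      simp only [hTa, map_add, LinearMap.add_apply, map_smulₛₗ, map_smul, LinearMap.smul_apply, smul_eq_mul,
        RingHom.id_apply, map_mul, hw, hB.symm]
      linear_combination (B x w * B w y) * ht
    have hu : IsUnit T := (LinearMap.isUnit_iff_isUnit_det T).2 (by rw [hTd]; exact isUnit_one)
    obtain ⟨g, hg⟩ := toGL hu
    have hgG : g ∈ G₀ := ⟨memGU hg hTi, memSL.2 (by rw [hg, hdet, hTd])⟩
    exact ⟨Φ g, (hM.ge hgG).1, by rw [hΦ, hg, AlgEquiv.symm_apply_apply]⟩

end CfsgLib.Classical.PauliForm.Herm
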