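import Cfsg.Agent.Lib.Classical.PauliMax.Tools
import Cfsg.Agent.Lib.Classical.Clifford4.Extract

/-!
# Quarter turns generate the maps normalising a system of degree four

Products of quarter turns carry two anticommuting pairs of a system to any other two such pairs, and only the
scalars commute with two pairs in degree four.
-/

set_option autoImplicit false
set_option linter.unusedSectionVars false
set_option maxHeartbeats 400000

namespace CfsgLib.Classical.PauliForm.Herm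

open Module CfsgLib.Classical.PauliMax

variable {F : Type*} [Field F] {V : Type*} [AddCommGroup V] [Module F V] [FiniteDimensional F V] {i : F}
  {R : Set (Module.End F V)} (h : Pauli i R)

local notation "E" => Module.End F V

/-- Two anticommuting pairs of involutions of the system commuting with each other. -/
structure Quad (R : Set (Module.End F V)) (a b c e : Module.End F V) : Prop where
  ha : a ∈ R
  hb : b ∈ R
  hc : c ∈ R
  he : e ∈ R
  aa : a * a = 1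
  bb : b * b = 1
  cc : c * c = 1
  ee : e * e = 1
  ab : b * a = -(a * b)
  ce : e * c = -(c * e)
  ac : c * a = a * c
  bc : c * b = b * c
  ae : e * a = a * e
  be : e * b = b * e

include h

/-- The quarter turn exchanging two anticommuting involutions. -/
theorem exists_turn [Nontrivial V] {x x' : E} (hx : x ∈ R) (hxx : x * x = 1) (hx' : x' ∈ R) (hxx' : x' * x' = 1)
    (hanti : x' * x = -(x * x')) :
    ∃ d ∈ R, d * d = 1 ∧ ¬ IsScalarMap d ∧ quarter i d * x = x' * quarter i d ∧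
      ∀ (y : E) (s : F), s * s = 1 → y * x = s • (x * y) → y * x' = s • (x' * y) →
        quarter i d * y = y * quarter i d := by
  have hd : i • (x * x') ∈ R := h.i_smul_mem (h.mul_mem _ hx _ hx')
  have hxd : x * (x * x') = x' := by rw [← mul_assoc, hxx, one_mul]
  have hdx : x * x' * x = -x' := by rw [mul_assoc, hanti, mul_neg, hxd]
  have hdd : (i • (x * x')) * (i • (x * x')) = 1 := by
    rw [smul_mul_smul_comm, h.hi, ← mul_assoc (x * x') x x', hdx, neg_mul, hxx', neg_one_smul, neg_neg]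
  have hy : x * (i • (x * x')) = -((i • (x * x')) * x) := by
    rw [mul_smul_comm, hxd, smul_mul_assoc, hdx, smul_neg, neg_neg]
  refine ⟨_, hd, hdd, h.not_scalar_of_anti hd hx hy, ?_, fun y s hs e e' => ?_⟩
  · rw [quarter_mul_anti h.hi hdd hy, mul_smul_comm, hxd, smul_smul, neg_mul, h.hi, neg_neg, one_smul]
  · refine (quarter_comm ?_).symm
    rw [mul_smul_comm, smul_mul_assoc, ← mul_assoc, e, smul_mul_assoc, mul_assoc, e', mul_smul_comm, smul_smul, smul_smul, mul_assoc i s s, hs,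
      mul_one, mul_assoc]

/-- Turns carrying an involution to another through an intermediate one, fixing given maps. -/
theorem exists_turns [Nontrivial V] {Γ : Subgroup Eˣ} (hΓ : Ambient i R Γ) (S : Set E) {x x' : E} (hx : x ∈ R)
    (hxx : x * x = 1) (hx' : x' ∈ R) (hxx' : x' * x' = 1)
    (hS : ∀ y ∈ S, ∃ s : F, s * s = 1 ∧ y * x = s • (x * y) ∧ y * x' = s • (x' * y))
    (hw : x' * x = x * x' → ∃ w ∈ R, w * w = 1 ∧ w * x = -(x * w) ∧ w * x' = -(x' * w) ∧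
      ∀ y ∈ S, ∀ s : F, y * x = s • (x * y) → y * x' = s • (x' * y) → y * w = s • (w * y)) :
    ∃ q : E, InG Γ q ∧ Nor R q ∧ IsUnit q ∧ q * x = x' * q ∧ ∀ y ∈ S, q * y = y * q := by
  rcases h.comm x hx x' hx' with e | e
  · obtain ⟨w, hwR, hww, hwx, hwx', hwS⟩ := hw e
    obtain ⟨d, hd, hdd, -, hdm, hdS⟩ := exists_turn h hx hxx hwR hww hwx
    obtain ⟨d', hd', hdd', -, hdm', hdS'⟩ := exists_turn h hwR hww hx' hxx' (by rw [hwx', neg_neg])
    refine ⟨quarter i d' * quarter i d, (hΓ.quarter d' hd' hdd').mul (hΓ.quarter d hd hdd),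
      (h.nor_quarter hd' hdd').mul (h.nor_quarter hd hdd),
      (quarter_isUnit h.hi h.two_ne hdd').mul (quarter_isUnit h.hi h.two_ne hdd), ?_, fun y hy => ?_⟩
    · rw [mul_assoc, hdm, ← mul_assoc, hdm', mul_assoc]
    · obtain ⟨s, hs, e1, e2⟩ := hS y hy
      have e3 := hwS y hy s e1 e2
      rw [mul_assoc, hdS y s hs e1 e3, ← mul_assoc, hdS' y s hs e3 e2, mul_assoc]
  · obtain ⟨d, hd, hdd, -, hdm, hdS⟩ := exists_turn h hx hxx hx' hxx' e
    exact ⟨_, hΓ.quarter d hd hdd, h.nor_quarter hd hdd, quarter_isUnit h.hi h.two_ne hdd, hdm, fun y hy => by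
      obtain ⟨s, hs, e1, e2⟩ := hS y hy; exact hdS y s hs e1 e2⟩

omit h in
/-- Relations up to scalars pass to conjugates. -/
theorem sign_image {f x x' y y' : E} (hf : IsUnit f) (ex : f * x = x' * f) (ey : f * y = y' * f) {s : F}
    (e : y * x = s • (x * y)) : y' * x' = s • (x' * y') := by
  refine hf.mul_right_cancel ?_
  rw [mul_assoc, ← ex, ← mul_assoc, ← ey, mul_assoc, e, mul_smul_comm, ← mul_assoc, ex, mul_assoc, ey, smul_mul_assoc,
    mul_assoc]

/-- The image of an involution under a normalising unit. -/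
theorem exists_image [Nontrivial V] {f x : E} (hf : IsUnit f) (hn : Nor R f) (hx : x ∈ R) (hxx : x * x = 1)
    (hns : ¬ IsScalarMap x) : ∃ x' ∈ R, x' * x' = 1 ∧ ¬ IsScalarMap x' ∧ f * x = x' * f := by
  obtain ⟨x', hx', e⟩ := hn x hx
  refine ⟨x', hx', hf.mul_right_cancel ?_, fun ⟨k, hk⟩ => hns ⟨k, hf.mul_left_cancel ?_⟩, e⟩
  · rw [mul_assoc, ← e, ← mul_assoc, ← e, mul_assoc, hxx, mul_one, one_mul]
  · rw [e, hk, smul_mul_assoc, one_mul, mul_smul_comm, mul_one]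

/-- The intermediate involution of a second step. -/
theorem exists_mid {a b b' : E} (ha : a ∈ R) (haa : a * a = 1) (hb : b ∈ R) (hbb : b * b = 1)
    (hab : b * a = -(a * b)) (hab' : b' * a = -(a * b')) (hbb' : b' * b = b * b') :
    (i • (a * b)) ∈ R ∧ (i • (a * b)) * (i • (a * b)) = 1 ∧ (i • (a * b)) * b = -(b * (i • (a * b))) ∧
      (i • (a * b)) * b' = -(b' * (i • (a * b))) ∧ a * (i • (a * b)) = -((i • (a * b)) * a) ∧
      ∀ y, y * a = a * y → y * b = b * y → y * (i • (a * b)) = (i • (a * b)) * y := by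
  have h1 : a * b * a = -b := by rw [mul_assoc, hab, mul_neg, ← mul_assoc, haa, one_mul]
  have h2 : b * (a * b) = -a := by rw [← mul_assoc, hab, neg_mul, mul_assoc, hbb, mul_one]
  refine ⟨h.i_smul_mem (h.mul_mem _ ha _ hb), ?_, ?_, ?_, ?_, fun y e e' => ?_⟩
  · rw [smul_mul_smul_comm, h.hi, ← mul_assoc (a * b) a b, h1, neg_mul, hbb, neg_one_smul, neg_neg]
  · rw [mul_smul_comm, h2, smul_neg, neg_neg, smul_mul_assoc, mul_assoc, hbb, mul_one]
  · rw [mul_smul_comm, smul_mul_assoc, ← mul_assoc b' a b, hab', neg_mul, mul_assoc a b' b, hbb', smul_neg, neg_neg,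
      mul_assoc]
  · rw [mul_smul_comm, ← mul_assoc, haa, one_mul, smul_mul_assoc, h1, smul_neg, neg_neg]
  · rw [mul_smul_comm, smul_mul_assoc, ← mul_assoc, e, mul_assoc, e', mul_assoc]

/-- A member can be moved into the centraliser of an anticommuting pair by a member of the pair or their product. -/
theorem adjust {a b w : E} (ha : a ∈ R) (hb : b ∈ R) (hab : b * a = -(a * b)) (hw : w ∈ R) :
    ∃ w' ∈ R, w' * a = a * w' ∧ w' * b = b * w' ∧
      ∀ z, z * a = a * z → z * b = b * z → ∀ s : F, z * w = s • (w * z) → z * w' = s • (w' * z) := by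
  have step : ∀ {p q w : E}, p ∈ R → q * p = -(p * q) → w ∈ R → w * q = -(q * w) →
      ∃ w' ∈ R, w' * q = q * w' ∧ (∀ z, z * p = p * z → ∀ s : F, z * w = s • (w * z) → z * w' = s • (w' * z)) := by
    intro p q w hp hpq hw hwq
    refine ⟨w * p, h.mul_mem _ hw _ hp, ?_, fun z ez s es => ?_⟩
    · rw [mul_assoc, show p * q = -(q * p) by rw [hpq, neg_neg], mul_neg, ← mul_assoc, hwq, neg_mul, neg_neg, mul_assoc]
    · rw [← mul_assoc, es, smul_mul_assoc, mul_assoc, ez, mul_assoc]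
  obtain ⟨w₁, hw₁, hw₁a, hw₁s⟩ : ∃ w₁ ∈ R, w₁ * a = a * w₁ ∧
      ∀ z, z * b = b * z → ∀ s : F, z * w = s • (w * z) → z * w₁ = s • (w₁ * z) := by
    rcases h.comm a ha w hw with e | e
    · exact ⟨w, hw, e, fun z _ s es => es⟩
    · exact step hb (by rw [hab, neg_neg]) hw e
  rcases h.comm b hb w₁ hw₁ with e | e
  · exact ⟨w₁, hw₁, hw₁a, e, fun z _ eb s es => hw₁s z eb s es⟩
  · refine ⟨w₁ * a, h.mul_mem _ hw₁ _ ha, ?_, ?_, fun z ea eb s es => ?_⟩
    · conv_rhs => rw [← mul_assoc, ← hw₁a]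
    · rw [mul_assoc, show a * b = -(b * a) by rw [hab, neg_neg], mul_neg, ← mul_assoc, e, neg_mul, neg_neg, mul_assoc]
    · rw [← mul_assoc, hw₁s z eb s es, smul_mul_assoc, mul_assoc, ea, mul_assoc]

/-- The involution of a multiple of a member keeps the relations. -/
theorem exists_invol_rel [Nontrivial V] {w : E} (hw : w ∈ R) (hns : ¬ IsScalarMap w) :
    ∃ w' ∈ R, w' * w' = 1 ∧ ¬ IsScalarMap w' ∧ ∀ (z : E) (s : F), z * w = s • (w * z) → z * w' = s • (w' * z) := by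
  obtain ⟨w', hw', hww, hns', k, hk, rfl⟩ := h.exists_invol hw hns
  refine ⟨w', hw', hww, hns', fun z s e => smul_right_injective E hk ?_⟩
  simp only [mul_smul_comm, smul_mul_assoc] at e ⊢
  rw [e, smul_comm]

theorem exists_quad [Nontrivial V] (h4 : finrank F V = 4) : ∃ a b c e : E, Quad R a b c e := by
  obtain ⟨a₀, ha₀, ha₀s⟩ : ∃ x ∈ R, ¬ IsScalarMap x := by
    by_contra hcon
    push Not at hcon
    have h1 : Submodule.span F R ≤ Submodule.span F ({1} : Set E) :=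
      Submodule.span_le.2 fun x hx => by
        obtain ⟨k, rfl⟩ := hcon x hx
        exact Submodule.smul_mem _ _ (Submodule.subset_span rfl)
    rw [h.full] at h1
    have h2 := (Submodule.finrank_mono h1).trans (finrank_span_le_card ({1} : Set E))
    rw [finrank_top, Module.finrank_linearMap, h4] at h2
    simp at h2
  obtain ⟨a, ha, haa, has, -⟩ := h.exists_invol ha₀ ha₀s
  obtain ⟨b₀, hb₀, hab₀⟩ := h.exists_anti ha has
  obtain ⟨b, hb, hbb, hbs, hbr⟩ := exists_invol_rel h hb₀ (h.not_scalar_of_anti hb₀ ha (by rw [hab₀, neg_neg]))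
  have hab : b * a = -(a * b) := by
    have := hbr a (-1) (by rw [hab₀, neg_smul, one_smul, neg_neg])
    rw [this, neg_smul, one_smul, neg_neg]
  obtain ⟨c, hc, hcc, hca, hcb, hcs, -⟩ := h.exists_comm_invol (by omega) ha hb a
  obtain ⟨e₀, he₀, hce₀⟩ := h.exists_anti hc hcs
  obtain ⟨e₁, he₁, he₁a, he₁b, he₁r⟩ := adjust h ha hb hab he₀
  have hce₁ : c * e₁ = (-1 : F) • (e₁ * c) := he₁r c hca hcb (-1) (by rw [hce₀, neg_smul, one_smul, neg_neg])
  obtain ⟨e, he, hee, -, her⟩ := exists_invol_rel h he₁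
    (h.not_scalar_of_anti he₁ hc (by rw [hce₁, neg_smul, one_smul]))
  refine ⟨a, b, c, e, ha, hb, hc, he, haa, hbb, hcc, hee, hab, ?_, hca, hcb, ?_, ?_⟩
  · rw [her c (-1) hce₁, neg_smul, one_smul, neg_neg]
  · have := her a 1 (by rw [one_smul, he₁a]); rw [one_smul] at this; exact this.symm
  · have := her b 1 (by rw [one_smul, he₁b]); rw [one_smul] at this; exact this.symm

theorem Quad.scalar {a b c e : E} (Q : Quad R a b c e) (h4 : finrank F V = 4) {X : E} (xa : X * a = a * X)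
    (xb : X * b = b * X) (xc : X * c = c * X) (xe : X * e = e * X) : IsScalarMap X := by
  classical
  let ψ := LinearMap.toMatrixAlgEquiv (Module.finBasisOfFinrankEq F V h4)
  have hs : ∀ {u : E}, u * u = 1 → ψ (i • u) * ψ (i • u) = -1 := fun {u} hu => by
    rw [← map_mul, smul_mul_smul_comm, h.hi, hu, neg_one_smul, map_neg, map_one]
  have hF : Clifford4.Frame (ψ a) (ψ b) (ψ (i • c)) (ψ (i • e)) :=
    { card := Fintype.card_fin 4
      two := h.two_ne
      sqa := .inl (by rw [← map_mul, Q.aa, map_one])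
      sqb := .inl (by rw [← map_mul, Q.bb, map_one])
      sqc := .inr (hs Q.cc)
      sqd := .inr (hs Q.ee)
      ab := by rw [← map_mul, Q.ab, map_neg, map_mul]
      cd := by rw [← map_mul, ← map_mul, smul_mul_smul_comm, smul_mul_smul_comm, Q.ce, smul_neg, map_neg]
      ac := by rw [← map_mul, ← map_mul, smul_mul_assoc, mul_smul_comm, Q.ac]
      ad := by rw [← map_mul, ← map_mul, smul_mul_assoc, mul_smul_comm, Q.ae]
      bc := by rw [← map_mul, ← map_mul, smul_mul_assoc, mul_smul_comm, Q.bc]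
      bd := by rw [← map_mul, ← map_mul, smul_mul_assoc, mul_smul_comm, Q.be] }
  obtain ⟨k, hk⟩ := hF.commutant (ψ X) (hF.comm_all (by rw [← map_mul, xa, map_mul]) (by rw [← map_mul, xb, map_mul])
    (by rw [← map_mul, mul_smul_comm, xc, ← smul_mul_assoc, map_mul])
    (by rw [← map_mul, mul_smul_comm, xe, ← smul_mul_assoc, map_mul]))
  exact ⟨k, ψ.injective (by rw [hk, map_smul, map_one])⟩

/-- Every invertible map normalising the system lies in a group containing scalars and quarter turns. -/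
theorem inG_of_nor [Nontrivial V] (h4 : finrank F V = 4) {Γ : Subgroup Eˣ} (hΓ : Ambient i R Γ) {f : E}
    (hf : IsUnit f) (hn : Nor R f) : InG Γ f := by
  obtain ⟨a, b, c, e, Q⟩ := exists_quad h h4
  have has := h.not_scalar_of_anti Q.ha Q.hb Q.ab
  have hbs := h.not_scalar_of_anti Q.hb Q.ha (show a * b = -(b * a) by rw [Q.ab, neg_neg])
  have hcs := h.not_scalar_of_anti Q.hc Q.he Q.ce
  have hes := h.not_scalar_of_anti Q.he Q.hc (show c * e = -(e * c) by rw [Q.ce, neg_neg])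
  have back : ∀ {q g : E}, InG Γ q → InG Γ (q * g) → InG Γ g := fun {q g} hq hqg => by
    obtain ⟨q', hq', -, h2⟩ := hq.exists_inv
    have := hq'.mul hqg
    rwa [← mul_assoc, h2, one_mul] at this
  have neg : ∀ {u v : E}, u * v = (-1 : F) • (v * u) ↔ u * v = -(v * u) := fun {u v} => by rw [neg_smul, one_smul]
  have pos : ∀ {u v : E}, u * v = (1 : F) • (v * u) ↔ u * v = v * u := fun {u v} => by rw [one_smul]
  -- the first involution
  obtain ⟨a₁, ha₁, ha₁a, ha₁s, ea⟩ := exists_image h hf hn Q.ha Q.aa has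
  obtain ⟨q₁, hq₁, nq₁, uq₁, mq₁, -⟩ := exists_turns h hΓ ∅ ha₁ ha₁a Q.ha Q.aa (fun y hy => absurd hy (by simp))
    fun _ => by
      obtain ⟨w₀, hw₀, e1, e2⟩ := h.exists_anti_both ha₁ ha₁s Q.ha has
      obtain ⟨w, hw, hww, -, hr⟩ := exists_invol_rel h hw₀ (h.not_scalar_of_anti hw₀ ha₁ (by rw [e1, neg_neg]))
      refine ⟨w, hw, hww, ?_, ?_, fun y hy => absurd hy (by simp)⟩
      · rw [neg.1 (hr a₁ (-1) (neg.2 (by rw [e1, neg_neg]))), neg_neg]
      · rw [neg.1 (hr a (-1) (neg.2 (by rw [e2, neg_neg]))), neg_neg]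
  refine back hq₁ ?_
  obtain ⟨f₁, hf₁, uf₁, nf₁⟩ : ∃ f₁, f₁ = q₁ * f ∧ IsUnit f₁ ∧ Nor R f₁ := ⟨_, rfl, uq₁.mul hf, nq₁.mul hn⟩
  have fa : f₁ * a = a * f₁ := by rw [hf₁, mul_assoc, ea, ← mul_assoc, mq₁, mul_assoc]
  rw [← hf₁]
  -- its partner
  obtain ⟨b₁, hb₁, hb₁b, -, eb⟩ := exists_image h uf₁ nf₁ Q.hb Q.bb hbs
  have hb₁a : b₁ * a = -(a * b₁) := neg.1 (sign_image uf₁ fa eb (neg.2 Q.ab))
  obtain ⟨q₂, hq₂, nq₂, uq₂, mq₂, sq₂⟩ := exists_turns h hΓ {a} hb₁ hb₁b Q.hb Q.bb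
    (fun y hy => by
      rw [Set.mem_singleton_iff.1 hy]
      exact ⟨-1, by norm_num, neg.2 (by rw [hb₁a, neg_neg]), neg.2 (by rw [Q.ab, neg_neg])⟩)
    fun hc => by
      obtain ⟨hw, hww, e1, e2, e3, -⟩ := exists_mid h Q.ha Q.aa Q.hb Q.bb Q.ab hb₁a hc.symm
      refine ⟨_, hw, hww, e2, e1, fun y hy s es _ => ?_⟩
      rw [Set.mem_singleton_iff.1 hy] at es ⊢
      have hs : (s + 1) • (b₁ * a) = 0 := by
        have h0 : a * b₁ = -(b₁ * a) := by rw [hb₁a, neg_neg]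
        rw [add_smul, one_smul, ← es, h0, neg_add_cancel]
      obtain rfl : s = -1 := eq_neg_of_add_eq_zero_left
        ((smul_eq_zero.1 hs).resolve_right (h.ne_zero (h.mul_mem _ hb₁ _ Q.ha)))
      exact neg.2 e3
  refine back hq₂ ?_
  obtain ⟨f₂, hf₂, uf₂, nf₂⟩ : ∃ f₂, f₂ = q₂ * f₁ ∧ IsUnit f₂ ∧ Nor R f₂ := ⟨_, rfl, uq₂.mul uf₁, nq₂.mul nf₁⟩
  have fa₂ : f₂ * a = a * f₂ := by rw [hf₂, mul_assoc, fa, ← mul_assoc, sq₂ a rfl, mul_assoc]
  have fb : f₂ * b = b * f₂ := by rw [hf₂, mul_assoc, eb, ← mul_assoc, mq₂, mul_assoc]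
  rw [← hf₂]
  -- the second pair
  obtain ⟨c₁, hc₁, hc₁c, hc₁s, ec⟩ := exists_image h uf₂ nf₂ Q.hc Q.cc hcs
  have hc₁a : c₁ * a = a * c₁ := pos.1 (sign_image uf₂ fa₂ ec (pos.2 Q.ac))
  have hc₁b : c₁ * b = b * c₁ := pos.1 (sign_image uf₂ fb ec (pos.2 Q.bc))
  obtain ⟨q₃, hq₃, nq₃, uq₃, mq₃, sq₃⟩ := exists_turns h hΓ {a, b} hc₁ hc₁c Q.hc Q.cc
    (fun y hy => by
      rcases hy with rfl | rfl
      · exact ⟨1, one_mul 1, pos.2 hc₁a.symm, pos.2 Q.ac.symm⟩
      · exact ⟨1, one_mul 1, pos.2 hc₁b.symm, pos.2 Q.bc.symm⟩)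
    fun _ => by
      obtain ⟨w₀, hw₀, e1, e2⟩ := h.exists_anti_both hc₁ hc₁s Q.hc hcs
      obtain ⟨w₁, hw₁, hw₁a, hw₁b, hr₁⟩ := adjust h Q.ha Q.hb Q.ab hw₀
      have e1' := neg.1 (hr₁ c₁ hc₁a hc₁b (-1) (neg.2 (by rw [e1, neg_neg])))
      have e2' := neg.1 (hr₁ c Q.ac Q.bc (-1) (neg.2 (by rw [e2, neg_neg])))
      obtain ⟨w, hw, hww, -, hr⟩ := exists_invol_rel h hw₁ (h.not_scalar_of_anti hw₁ hc₁ e1')
      refine ⟨w, hw, hww, ?_, ?_, fun y hy s es _ => ?_⟩
      · rw [neg.1 (hr c₁ (-1) (neg.2 e1')), neg_neg]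
      · rw [neg.1 (hr c (-1) (neg.2 e2')), neg_neg]
      · have hyc : y * c₁ = c₁ * y ∧ y ∈ R ∧ y * w₁ = w₁ * y := by
          rcases hy with rfl | rfl
          · exact ⟨hc₁a.symm, Q.ha, hw₁a.symm⟩
          · exact ⟨hc₁b.symm, Q.hb, hw₁b.symm⟩
        obtain ⟨h0, hyR, hyw⟩ := hyc
        have hs : (s - 1) • (c₁ * y) = 0 := by rw [sub_smul, one_smul, ← es, h0, sub_self]
        obtain rfl : s = 1 := sub_eq_zero.1
          ((smul_eq_zero.1 hs).resolve_right (h.ne_zero (h.mul_mem _ hc₁ _ hyR)))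
        exact hr y 1 (pos.2 hyw)
  refine back hq₃ ?_
  obtain ⟨f₃, hf₃, uf₃, nf₃⟩ : ∃ f₃, f₃ = q₃ * f₂ ∧ IsUnit f₃ ∧ Nor R f₃ := ⟨_, rfl, uq₃.mul uf₂, nq₃.mul nf₂⟩
  have fa₃ : f₃ * a = a * f₃ := by rw [hf₃, mul_assoc, fa₂, ← mul_assoc, sq₃ a (.inl rfl), mul_assoc]
  have fb₃ : f₃ * b = b * f₃ := by rw [hf₃, mul_assoc, fb, ← mul_assoc, sq₃ b (.inr rfl), mul_assoc]
  have fc : f₃ * c = c * f₃ := by rw [hf₃, mul_assoc, ec, ← mul_assoc, mq₃, mul_assoc]
  rw [← hf₃]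
  -- its partner
  obtain ⟨e₁, he₁, he₁e, -, ee⟩ := exists_image h uf₃ nf₃ Q.he Q.ee hes
  have he₁a : e₁ * a = a * e₁ := pos.1 (sign_image uf₃ fa₃ ee (pos.2 Q.ae))
  have he₁b : e₁ * b = b * e₁ := pos.1 (sign_image uf₃ fb₃ ee (pos.2 Q.be))
  have he₁c : e₁ * c = -(c * e₁) := neg.1 (sign_image uf₃ fc ee (neg.2 Q.ce))
  obtain ⟨q₄, hq₄, nq₄, uq₄, mq₄, sq₄⟩ := exists_turns h hΓ {a, b, c} he₁ he₁e Q.he Q.ee
    (fun y hy => by
      rcases hy with rfl | rfl | rfl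
      · exact ⟨1, one_mul 1, pos.2 he₁a.symm, pos.2 Q.ae.symm⟩
      · exact ⟨1, one_mul 1, pos.2 he₁b.symm, pos.2 Q.be.symm⟩
      · exact ⟨-1, by norm_num, neg.2 (by rw [he₁c, neg_neg]), neg.2 (by rw [Q.ce, neg_neg])⟩)
    fun hc => by
      obtain ⟨hw, hww, e1, e2, e3, e4⟩ := exists_mid h Q.hc Q.cc Q.he Q.ee Q.ce he₁c hc.symm
      refine ⟨_, hw, hww, e2, e1, fun y hy s es _ => ?_⟩
      have key : ∀ {y : E}, y ∈ R → y * e₁ = e₁ * y → y * e₁ = s • (e₁ * y) → s = 1 := fun {y} hyR h0 es => by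
        have hs : (s - 1) • (e₁ * y) = 0 := by rw [sub_smul, one_smul, ← es, h0, sub_self]
        exact sub_eq_zero.1 ((smul_eq_zero.1 hs).resolve_right (h.ne_zero (h.mul_mem _ he₁ _ hyR)))
      rcases hy with rfl | rfl | rfl
      · rw [key Q.ha he₁a.symm es]; exact pos.2 (e4 _ Q.ac.symm Q.ae.symm)
      · rw [key Q.hb he₁b.symm es]; exact pos.2 (e4 _ Q.bc.symm Q.be.symm)
      · have hs : (s + 1) • (e₁ * y) = 0 := by
          rw [add_smul, one_smul, ← es, he₁c, add_neg_cancel]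
        obtain rfl : s = -1 := eq_neg_of_add_eq_zero_left
          ((smul_eq_zero.1 hs).resolve_right (h.ne_zero (h.mul_mem _ he₁ _ Q.hc)))
        exact neg.2 e3
  refine back hq₄ ?_
  have fa₄ : q₄ * f₃ * a = a * (q₄ * f₃) := by rw [mul_assoc, fa₃, ← mul_assoc, sq₄ a (.inl rfl), mul_assoc]
  have fb₄ : q₄ * f₃ * b = b * (q₄ * f₃) := by rw [mul_assoc, fb₃, ← mul_assoc, sq₄ b (.inr (.inl rfl)), mul_assoc]
  have fc₄ : q₄ * f₃ * c = c * (q₄ * f₃) := by rw [mul_assoc, fc, ← mul_assoc, sq₄ c (.inr (.inr rfl)), mul_assoc]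
  have fe : q₄ * f₃ * e = e * (q₄ * f₃) := by rw [mul_assoc, ee, ← mul_assoc, mq₄, mul_assoc]
  obtain ⟨k, hk⟩ := Quad.scalar h Q h4 fa₄ fb₄ fc₄ fe
  rw [hk]
  refine hΓ.scal k fun hk0 => ?_
  have hu := uq₄.mul uf₃
  rw [hk, hk0, zero_smul, isUnit_zero_iff] at hu
  exact zero_ne_one hu

end CfsgLib.Classical.PauliForm.Herm
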