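import Cfsg.Agent.Lib.Classical.PauliForm.Herm.Step
import Cfsg.Agent.Lib.Classical.PauliForm.Fusion
import Cfsg.Agent.Lib.Classical.PauliMax.Main

/-!
# Groups of similitudes containing a unitary system and its quarter turns

In degree a power of two, at least four, such a group normalises the system or contains all transvections, as soon as
this holds in degree four.
-/

set_option autoImplicit false
set_option linter.unusedSectionVars false

namespace CfsgLib.Classical.PauliForm.Herm

open Module CfsgLib.Classical CfsgLib.Classical.PauliMax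

universe uF uV

/-- The dichotomy in degree four. -/
def FourBase {F : Type uF} [Field F] (σ : F →+* F) (i : F) : Prop :=
  ∀ {V : Type uV} [AddCommGroup V] [Module F V] [FiniteDimensional F V] {B : V →ₛₗ[σ] V →ₗ[F] F},
    IsHermitian B → B.SeparatingRight → finrank F V = 4 → ∀ {R : Set (Module.End F V)}, Pauli i R →
      (∀ r ∈ R, ∀ u v, B (r u) (r v) = B u v) → ∀ {Γ : Subgroup (Module.End F V)ˣ}, Ambient i R Γ →
        (∀ g : Module.End F V, InG Γ g → ∃ μ : F, μ ≠ 0 ∧ ∀ u v, B (g u) (g v) = μ * B u v) →
          (∀ g : Module.End F V, InG Γ g → Nor R g) ∨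
            ∀ (w : V) (c : F), B w w = 0 → c + σ c = 0 → InG Γ (1 + c • (B w).smulRight w)

/-- The dichotomy in all degrees, given it in degree four. -/
theorem nor_or_tv_of_base {F : Type uF} [Field F] [Finite F] {σ : F →+* F} {i : F} (hσi : σ i = -i)
    (base : FourBase.{uF, uV} σ i) : ∀ (m : ℕ) {V : Type uV} [AddCommGroup V] [Module F V] [FiniteDimensional F V]
    {B : V →ₛₗ[σ] V →ₗ[F] F}, IsHermitian B → B.SeparatingRight → finrank F V = 2 ^ (m + 2) →
    ∀ {R : Set (Module.End F V)}, Pauli i R → (∀ r ∈ R, ∀ u v, B (r u) (r v) = B u v) →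
    ∀ {Γ : Subgroup (Module.End F V)ˣ}, Ambient i R Γ →
      (∀ g : Module.End F V, InG Γ g → ∃ μ : F, μ ≠ 0 ∧ ∀ u v, B (g u) (g v) = μ * B u v) →
      (∀ g : Module.End F V, InG Γ g → Nor R g) ∨
        ∀ (w : V) (c : F), B w w = 0 → c + σ c = 0 → InG Γ (1 + c • (B w).smulRight w) := by
  intro m
  induction m with
  | zero =>
    intro V _ _ _ B hB hN hV R h hR Γ hΓ hsim
    exact base hB hN (by simpa using hV) h hR hΓ hsim
  | succ m ih =>
    intro V _ _ _ B hB hN hV R h hR Γ hΓ hsim
    have h2 := h.two_ne
    have hdim : 8 ≤ finrank F V := by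
      rw [hV, show (8 : ℕ) = 2 ^ 3 from rfl]
      exact Nat.pow_le_pow_right (by norm_num) (by omega)
    haveI : Nontrivial V := Module.finrank_pos_iff.1 (by omega : 0 < finrank F V)
    by_cases hbig : ∃ a ∈ R, ∃ haa : a * a = 1, ¬ IsScalarMap a ∧
        ∀ (w : plusSpace a) (c : F), restrictForm B (plusSpace a) w w = 0 → c + σ c = 0 →
          InG (resGroup haa h2 Γ) (1 + c • (restrictForm B (plusSpace a) w).smulRight w)
    · obtain ⟨a, ha, haa, has, htv⟩ := hbig
      refine .inr fun v c hv hc => inT_all hB hN hσi h hR hΓ ha haa has ?_ (fun w hw hww d hd => ?_) v hv c hc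
      · have := h.res_finrank ha haa has
        omega
      obtain ⟨f, hf, fa, e⟩ := (inG_resGroup_iff haa h2).1 (htv ⟨w, hw⟩ d hww hd)
      refine ⟨f, hf, fa, fun x hx => ?_⟩
      have := congrArg Subtype.val (LinearMap.congr_fun e ⟨x, hx⟩)
      rw [res_apply, apply_comm haa h2 fa] at this
      rw [this]
      simp [smul_smul]
    · left
      have hS : Small R Γ := by
        intro x hx hxx hxs g hg hgx
        have hW : finrank F (plusSpace x) = 2 ^ (m + 2) := by
          have := h.res_finrank hx hxx hxs
          rw [hV, show m + 1 + 2 = m + 2 + 1 from rfl, pow_succ] at this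
          omega
        have hWn := nondegOn_plus hxx h2 (hR x hx) hN
        rcases ih (hB.restrict (plusSpace x)) (restrictForm_separatingRight hWn) hW (h.pauli_res hx hxx) (by
            rintro _ ⟨r, ⟨hr, hrx⟩, rfl⟩ u v
            rw [restrictForm_apply, restrictForm_apply, res_apply, res_apply, apply_comm hxx h2 hrx,
              apply_comm hxx h2 hrx, hR r hr])
          (h.ambient_res hΓ hx hxx hxs) (by
            intro f hf
            obtain ⟨k, hk, hkx, rfl⟩ := (inG_resGroup_iff hxx h2).1 hf
            obtain ⟨μ, hμ, hs⟩ := hsim k hk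
            refine ⟨μ, hμ, fun u v => ?_⟩
            rw [restrictForm_apply, restrictForm_apply, res_apply, res_apply, apply_comm hxx h2 hkx,
              apply_comm hxx h2 hkx, hs]) with hn | ht
        · exact hn _ ((inG_resGroup_iff hxx h2).2 ⟨g, hg, hgx, rfl⟩)
        · exact absurd ⟨x, hx, hxx, hxs, ht⟩ hbig
      have hn : (finrank F V : F) ≠ 0 := by
        rw [hV, Nat.cast_pow]
        exact pow_ne_zero _ h2
      have heven : Even (finrank F V) := by rw [hV, pow_succ]; exact ⟨2 ^ (m + 2), by ring⟩
      exact nor_of_centralNor h hn (by omega) hΓ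
        (h.centralNor_of_small_or (.inl hdim) hn (by omega) heven hΓ hS) hn hdim

end CfsgLib.Classical.PauliForm.Herm
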