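import Cfsg.Agent.Lib.Classical.PauliForm.Herm.Induction
import Cfsg.Agent.Lib.Classical.PauliForm.Herm.Four

/-!
# Similitude groups containing a unitary system and its quarter turns
-/

set_option autoImplicit false
set_option linter.unusedSectionVars false

namespace CfsgLib.Classical.PauliForm.Herm

open Module CfsgLib.Classical CfsgLib.Classical.PauliMax

universe uF uV

theorem sigma_i {F : Type uF} [Field F] {p : ℕ} (h4p : p % 4 = 3) {σ : F →+* F} (hσ : ∀ x, σ x = x ^ p) {i : F}
    (hi : i * i = -1) : σ i = -i := by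
  obtain ⟨k, rfl⟩ : ∃ k, p = 4 * k + 3 := ⟨p / 4, by omega⟩
  have h4 : i ^ 4 = 1 := by linear_combination (i * i - 1) * hi
  rw [hσ, pow_add, pow_mul, h4, one_pow, one_mul]
  linear_combination i * hi

/-- In degree a power of two, at least four, such a group normalises the system or contains all transvections. -/
theorem nor_or_tv {F : Type uF} [Field F] [Finite F] {p : ℕ} (hp : p.Prime) (hF : Nat.card F = p ^ 2)
    (h4p : p % 4 = 3) {σ : F →+* F} (hσ : ∀ x, σ x = x ^ p) {i : F} (hi : i * i = -1) (m : ℕ) {V : Type uV}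
    [AddCommGroup V] [Module F V] [FiniteDimensional F V] {B : V →ₛₗ[σ] V →ₗ[F] F} (hB : IsHermitian B)
    (hN : B.SeparatingRight) (hV : finrank F V = 2 ^ (m + 2)) {R : Set (Module.End F V)} (h : Pauli i R)
    (hR : ∀ r ∈ R, ∀ u v, B (r u) (r v) = B u v) {Γ : Subgroup (Module.End F V)ˣ} (hΓ : Ambient i R Γ)
    (hsim : ∀ g : Module.End F V, InG Γ g → ∃ μ : F, μ ≠ 0 ∧ ∀ u v, B (g u) (g v) = μ * B u v) :
    (∀ g : Module.End F V, InG Γ g → Nor R g) ∨
      ∀ (w : V) (c : F), B w w = 0 → c + σ c = 0 → InG Γ (1 + c • (B w).smulRight w) :=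
  nor_or_tv_of_base (sigma_i h4p hσ hi)
    (fun {_} _ _ _ {_} hB hN h4 {_} h hR {_} hΓ hsim =>
      unitary_four_dichotomy hp hF h4p hσ hB hN h4 h hR hΓ hsim)
    m hB hN hV h hR hΓ hsim

end CfsgLib.Classical.PauliForm.Herm
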