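import Cfsg.Agent.Lib.Classical.PauliMax.SLStep
import Cfsg.Agent.Lib.Classical.HermSimple

/-!
# All transvections from those of one eigenspace

A group containing a system of unitary maps and its quarter turns, whose elements commuting with an involution of
the system induce all transvections on its fixed space, contains all transvections.
-/

set_option autoImplicit false
set_option linter.unusedSectionVars false
set_option maxHeartbeats 400000

namespace CfsgLib.Classical.PauliForm.Herm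

open Module MulAction CfsgLib.Classical CfsgLib.Classical.PauliMax
open scoped LinearAlgebra.Projectivization Pointwise

variable {F : Type*} [Field F] {V : Type*} [AddCommGroup V] [Module F V] [FiniteDimensional F V] {σ : F →+* F}
  {B : V →ₛₗ[σ] V →ₗ[F] F}

local notation "E" => Module.End F V

/-- The ring of maps of a subspace, found ahead of the piecewise instances. -/
@[reducible] noncomputable def subEndRing (q : Submodule F V) : Ring (Module.End F q) := Module.End.instRing

/-- The additive group of maps of a subspace, found ahead of the piecewise instances. -/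
@[reducible] noncomputable def subEndGrp (q : Submodule F V) : AddCommGroup (Module.End F q) := LinearMap.addCommGroup

attribute [local instance high] subEndRing subEndGrp

/-- The transvection with centre `v` and coefficient `c`. -/
def tvMap (B : V →ₛₗ[σ] V →ₗ[F] F) (v : V) (c : F) : Module.End F V := 1 + c • (B v).smulRight v

theorem tvMap_apply (v : V) (c : F) (x : V) : tvMap B v c x = x + (c * B v x) • v := by
  simp [tvMap, smul_smul]

/-- All transvections with centre `v` belong to the group. -/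
def InT (B : V →ₛₗ[σ] V →ₗ[F] F) (Γ : Subgroup (Module.End F V)ˣ) (v : V) : Prop :=
  ∀ c : F, c + σ c = 0 → InG Γ (tvMap B v c)

/-- The linear map of an isometry. -/
def isoEnd (g : isomGroup B) : Module.End F V := g.1.toLinearMap

theorem isoEnd_mul (g k : isomGroup B) : isoEnd (g * k) = isoEnd g * isoEnd k := rfl

theorem isoEnd_one : isoEnd (1 : isomGroup B) = 1 := rfl

theorem isoEnd_apply (g : isomGroup B) (x : V) : isoEnd g x = g.1 x := rfl

theorem isoEnd_mul_inv (g : isomGroup B) : isoEnd g * isoEnd g⁻¹ = 1 := by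
  rw [← isoEnd_mul, mul_inv_cancel, isoEnd_one]

theorem isoEnd_inv_mul (g : isomGroup B) : isoEnd g⁻¹ * isoEnd g = 1 := by
  rw [← isoEnd_mul, inv_mul_cancel, isoEnd_one]

theorem isoEnd_uTv {g : isomGroup B} {v : V} {c : F} (hg : IsUTv g v c) : isoEnd g = tvMap B v c :=
  LinearMap.ext fun x => by rw [tvMap_apply, isoEnd_apply, hg.2.2]

theorem transport_tv {g g' : E} (h1 : g * g' = 1) {μ : F} (hμ : μ ≠ 0)
    (hs : ∀ u v, B (g u) (g v) = μ * B u v) (v : V) (c : F) :
    g * tvMap B v c * g' = tvMap B (g v) (c / μ) := by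
  refine LinearMap.ext fun x => ?_
  have e : g (g' x) = x := LinearMap.congr_fun h1 x
  have e' : μ * B v (g' x) = B (g v) x := by rw [← hs, e]
  rw [Module.End.mul_apply, Module.End.mul_apply, tvMap_apply, tvMap_apply, map_add, map_smul, e, ← e',
    show c / μ * (μ * B v (g' x)) = c * B v (g' x) by field_simp]

theorem InT.transport {Γ : Subgroup Eˣ} {v : V} (hv : InT B Γ v) {g : E} (hg : InG Γ g) {μ : F} (hμ : μ ≠ 0)
    (hσμ : σ μ = μ) (hs : ∀ u v, B (g u) (g v) = μ * B u v) : InT B Γ (g v) := by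
  intro c hc
  obtain ⟨g', -, h1, -⟩ := hg.exists_inv
  have := InG.conj hg (hv (c * μ) (by rw [map_mul, hσμ, ← add_mul, hc, zero_mul])) h1
  rwa [transport_tv h1 hμ hs, mul_div_assoc, div_self hμ, mul_one] at this

theorem InT.map {Γ : Subgroup Eˣ} {v : V} (hv : InT B Γ v) {g : E} (hg : InG Γ g)
    (hs : ∀ u v, B (g u) (g v) = B u v) : InT B Γ (g v) :=
  hv.transport hg one_ne_zero (map_one σ) fun u v => by rw [hs, one_mul]

section involution

variable {a : Module.End F V} (haa : a * a = 1) (h2 : (2 : F) ≠ 0) (hai : ∀ u v, B (a u) (a v) = B u v)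
include haa h2 hai

theorem adjoint_invol (u v : V) : B (a u) v = B u (a v) := by
  have e : a (a v) = v := LinearMap.congr_fun haa v
  nth_rw 1 [← e]
  exact hai u (a v)

theorem orth_plus_minus {w u : V} (hw : w ∈ plusSpace a) (hu : u ∈ plusSpace (-a)) : B w u = 0 ∧ B u w = 0 := by
  have ew : a w = w := a_apply_of_mem haa h2 ⟨w, hw⟩
  have eu : a u = -u := by
    have := a_apply_of_mem (a := -a) (by rw [neg_mul_neg, haa]) h2 ⟨u, hu⟩
    rw [LinearMap.neg_apply] at this
    exact neg_eq_iff_eq_neg.1 this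
  have key : ∀ x : F, x = -x → x = 0 := fun x hx =>
    (mul_eq_zero.1 (show (2 : F) * x = 0 by linear_combination hx)).resolve_left h2
  refine ⟨key _ ?_, key _ ?_⟩
  · nth_rw 1 [← hai w u]
    rw [ew, eu, map_neg]
  · nth_rw 1 [← hai u w]
    rw [ew, eu, map_neg, LinearMap.neg_apply]

omit hai in
theorem split_vec (v : V) : proj a v + proj (-a) v = v := LinearMap.congr_fun (proj_add_neg haa h2) v

theorem nondegOn_plus (hN : B.SeparatingRight) : NondegOn B (plusSpace a) := by
  refine nondegOn_iff.2 fun x hx hall => hN x fun y => ?_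
  rw [← split_vec haa h2 y, map_add, LinearMap.add_apply, hall _ ⟨y, rfl⟩,
    (orth_plus_minus haa h2 hai hx ⟨y, rfl⟩).2, add_zero]

omit hai in
theorem lift_coe {X : Module.End F (plusSpace a)} (w : plusSpace a) : lift a X (w : V) = X w := by
  show ((X ((proj a).rangeRestrict (w : V)) : plusSpace a) : V) + proj (-a) (w : V) = _
  rw [rangeRestrict_coe haa h2, minus_coe haa h2, add_zero]

omit hai in
theorem lift_minus {X : Module.End F (plusSpace a)} {u : V} (hu : u ∈ plusSpace (-a)) : lift a X u = u := by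
  obtain ⟨v, rfl⟩ := hu
  show ((X ((proj a).rangeRestrict (proj (-a) v)) : plusSpace a) : V) + proj (-a) (proj (-a) v) = _
  rw [rangeRestrict_minus haa h2, map_zero, Submodule.coe_zero, zero_add, minus_minus haa h2]

theorem lift_isometry (g : isomGroup (restrictForm B (plusSpace a))) (u v : V) :
    B (lift a (isoEnd g) u) (lift a (isoEnd g) v) = B u v := by
  rw [← split_vec haa h2 u, ← split_vec haa h2 v]
  obtain ⟨⟨w₁, hw₁⟩, h₁⟩ : ∃ w : plusSpace a, (w : V) = proj a u := ⟨⟨_, u, rfl⟩, rfl⟩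
  obtain ⟨⟨w₂, hw₂⟩, h₂⟩ : ∃ w : plusSpace a, (w : V) = proj a v := ⟨⟨_, v, rfl⟩, rfl⟩
  have hu₁ : proj (-a) u ∈ plusSpace (-a) := ⟨u, rfl⟩
  have hu₂ : proj (-a) v ∈ plusSpace (-a) := ⟨v, rfl⟩
  rw [← h₁, ← h₂, map_add (lift a (isoEnd g)), map_add (lift a (isoEnd g)), lift_coe haa h2, lift_coe haa h2, lift_minus haa h2 hu₁,
    lift_minus haa h2 hu₂, isoEnd_apply, isoEnd_apply]
  simp only [map_add, LinearMap.add_apply, (orth_plus_minus haa h2 hai (g.1 ⟨w₁, hw₁⟩).2 hu₂).1,
    (orth_plus_minus haa h2 hai (g.1 ⟨w₂, hw₂⟩).2 hu₁).2, (orth_plus_minus haa h2 hai hw₁ hu₂).1,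
    (orth_plus_minus haa h2 hai hw₂ hu₁).2]
  rw [← restrictForm_apply (B := B) (plusSpace a) (g.1 ⟨w₁, hw₁⟩) (g.1 ⟨w₂, hw₂⟩), isomGroup_apply,
    restrictForm_apply]

theorem lift_tv (w : plusSpace a) (c : F) :
    lift a (tvMap (restrictForm B (plusSpace a)) w c) = tvMap B (w : V) c := by
  refine LinearMap.ext fun v => ?_
  have hz : B (w : V) (proj (-a) v) = 0 := (orth_plus_minus haa h2 hai w.2 ⟨v, rfl⟩).1
  show ((tvMap (restrictForm B (plusSpace a)) w c ((proj a).rangeRestrict v) : plusSpace a) : V) + proj (-a) v = _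
  conv_rhs => rw [tvMap_apply, ← plus_add_minus haa h2 v, map_add, hz, add_zero]
  rw [tvMap_apply, Submodule.coe_add, Submodule.coe_smul, restrictForm_apply, add_right_comm]

end involution

section group

variable [Finite F]

/-- The special isometries are transitive on the non-zero vectors of a given length. -/
theorem exists_sIsom_map (h : IsHermitian B) (hN : B.SeparatingRight) (hd : 4 ≤ finrank F V) {x y : V}
    (hx : x ≠ 0) (hy : y ≠ 0) (hxy : B x x = B y y) : ∃ g : sIsom B, g.1.1 x = y := by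
  have hT : NondegOn B (⊤ : Submodule F V) := nondegOn_iff.2 fun z _ hz => hN z fun w => hz w trivial
  by_cases hx0 : B x x = 0
  swap
  · obtain ⟨t, ht, e⟩ := h.trans_length hN hT (by rw [finrank_top]; omega) (.inr hd) (x := x) (y := y)
      trivial trivial hxy hx0
    exact ⟨⟨t, MonoidHom.mem_ker.2 (h.idet_tGroup ht.1)⟩, e⟩
  have hy0 : B y y = 0 := hxy ▸ hx0
  obtain ⟨g, hg⟩ := h.witt_family hN (ι := Unit) (a := fun _ => x) (b := fun _ => y)
    (linearIndependent_unique_iff.2 hx) (linearIndependent_unique_iff.2 hy) fun _ _ => hxy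
  obtain ⟨s, -, -, hys⟩ := h.exists_partner hT (r := y) trivial hy hy0
  obtain ⟨hU, hdU⟩ := h.finrank_inf_perp (h.nondegOn_hyp hy0 hys) hT le_top
  rw [h.finrank_hyp hy0 hys, finrank_top] at hdU
  obtain ⟨z, hz, hzz⟩ := h.exists_unit_in hU (by omega) (map_one σ)
  have hzy : B z y = 0 := h.isRefl _ _ (mem_perp_span.1 hz.2 y (by simp))
  obtain ⟨r, hr, hrd⟩ := h.exists_qr hN (z := z) (by rw [hzz]; exact one_ne_zero) (l := (idet B g)⁻¹)
    (by rw [map_inv₀, ← mul_inv, h.idet_norm hN, inv_one])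
  refine ⟨⟨r * g, MonoidHom.mem_ker.2 ?_⟩, ?_⟩
  · rw [map_mul, hrd, inv_mul_cancel₀]
    intro e
    simpa [e] using h.idet_norm hN g
  · change r.1 (g.1 x) = y
    rw [hg (), hr, hzy, mul_zero, zero_smul, add_zero]

variable (hB : IsHermitian B) (hN : B.SeparatingRight) {i : F} (hσi : σ i = -i)
  {R : Set (Module.End F V)} (h : Pauli i R) (hR : ∀ r ∈ R, ∀ u v, B (r u) (r v) = B u v) [Nontrivial V]
  {Γ : Subgroup (Module.End F V)ˣ} (hΓ : Ambient i R Γ)
include hB hN h hR hΓ

/-- If the centraliser of `a` induces all transvections of its fixed space, then the lifts of all special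
isometries of the fixed space belong to the group. -/
theorem inG_lift_sIsom {a : E} (ha : a ∈ R) (haa : a * a = 1) (has : ¬ IsScalarMap a)
    (hdim : 4 ≤ finrank F (plusSpace a))
    (hH : ∀ w ∈ plusSpace a, B w w = 0 → ∀ c : F, c + σ c = 0 →
      ∃ f : E, InG Γ f ∧ f * a = a * f ∧ ∀ x ∈ plusSpace a, f x = x + (c * B w x) • w) :
    ∀ g : sIsom (restrictForm B (plusSpace a)), InG Γ (lift a (isoEnd g.1)) := by
  classical
  have h2 := h.two_ne
  have hai := hR a ha
  have hW := nondegOn_plus haa h2 hai hN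
  have hBW := hB.restrict (plusSpace a)
  have hNW := restrictForm_separatingRight hW
  set BW := restrictForm B (plusSpace a) with hBWdef
  -- every special isometry is induced
  let M : Subgroup (isomGroup (restrictForm B (plusSpace a))) :=
    { carrier := {g | ∃ f f' : E, InG Γ f ∧ f * f' = 1 ∧ f' * f = 1 ∧ f * a = a * f ∧ res a f = isoEnd g}
      one_mem' := ⟨1, 1, ⟨1, Γ.one_mem, rfl⟩, one_mul 1, one_mul 1, by simp, by rw [res_one haa h2, isoEnd_one]⟩
      mul_mem' := by
        rintro g k ⟨f, f', hf, f1, f2, fa, e⟩ ⟨l, l', hl, l1, l2, la, e'⟩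
        refine ⟨f * l, l' * f', hf.mul hl, ?_, ?_, (Commute.mul_left fa la).eq,
          by rw [res_mul haa h2 la, e, e', isoEnd_mul]⟩
        · rw [mul_assoc, ← mul_assoc l, l1, one_mul, f1]
        · rw [mul_assoc, ← mul_assoc f', f2, one_mul, l2]
      inv_mem' := by
        rintro g ⟨f, f', hf, f1, f2, fa, e⟩
        have f'a := comm_inv f1 f2 fa
        refine ⟨f', f, hf.inv f1, f2, f1, f'a, left_inv_eq_right_inv (a := isoEnd g) ?_ (isoEnd_mul_inv g)⟩
        rw [← e, ← res_mul haa h2 fa, f2, res_one haa h2] }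
  have hM : tGroup (restrictForm B (plusSpace a)) ≤ M := by
    refine (Subgroup.closure_le _).2 ?_
    rintro g ⟨w, c, hg⟩
    obtain ⟨f, hf, fa, hfx⟩ := hH w w.2 hg.1 c hg.2.1
    obtain ⟨f', -, f1, f2⟩ := hf.exists_inv
    refine ⟨f, f', hf, f1, f2, fa, LinearMap.ext fun x => Subtype.ext ?_⟩
    rw [isoEnd_apply, hg.2.2, res_apply, apply_comm haa h2 fa, hfx _ x.2, Submodule.coe_add, Submodule.coe_smul,
      restrictForm_apply]
  have hex : 3 ≤ finrank F (plusSpace a) → BigFixed σ ∨ 4 ≤ finrank F (plusSpace a) := fun _ => .inr hdim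
  have hall : ∀ g : sIsom (restrictForm B (plusSpace a)), g.1 ∈ M :=
    fun g => hM (hBW.sIsom_eq_tGroup hNW hex ▸ g.2)
  obtain ⟨K, hKmem⟩ : ∃ K : Subgroup (sIsom (restrictForm B (plusSpace a))),
      ∀ g, g ∈ K ↔ InG Γ (lift a (isoEnd g.1)) := ⟨
    { carrier := {g | InG Γ (lift a (isoEnd g.1))}
      one_mem' := ⟨1, Γ.one_mem, by rw [Subgroup.coe_one, isoEnd_one, lift_one haa h2]; rfl⟩
      mul_mem' := by
        intro g k hg hk
        show InG Γ (lift a (isoEnd (g.1 * k.1)))
        rw [isoEnd_mul, ← lift_mul haa h2]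
        exact hg.mul hk
      inv_mem' := by
        intro g hg
        refine hg.inv ?_
        show lift a (isoEnd g.1) * lift a (isoEnd (g.1)⁻¹) = 1
        rw [lift_mul haa h2, isoEnd_mul_inv, lift_one haa h2] }, fun _ => Iff.rfl⟩
  haveI hKn : K.Normal := ⟨fun n hn g => by
    obtain ⟨f, f', hf, f1, f2, fa, e⟩ := hall g
    have f'a := comm_inv f1 f2 fa
    have e' : res a f' = isoEnd (g.1)⁻¹ := left_inv_eq_right_inv (a := isoEnd g.1)
      (by rw [← e, ← res_mul haa h2 fa, f2, res_one haa h2]) (isoEnd_mul_inv g.1)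
    rw [hKmem] at hn ⊢
    show InG Γ (lift a (isoEnd (g.1 * n.1 * (g.1)⁻¹)))
    rw [isoEnd_mul, isoEnd_mul, ← e, ← e', ← lift_conj haa h2 fa f1 f'a]
    exact InG.conj hf hn f1⟩
  -- a member moving an isotropic point
  obtain ⟨d, hd, hdd, hda, -, hds, hdne⟩ := h.exists_comm_invol (by
    have := h.res_finrank ha haa has; omega) ha h.one_mem a
  obtain ⟨D, hD⟩ : ∃ D : Module.End F (plusSpace a), D = res a d := ⟨_, rfl⟩
  have hDD : D * D = 1 := by rw [hD, ← res_mul haa h2 hda, hdd, res_one haa h2]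
  have hDs : ¬ IsScalarMap D := hD ▸ h.res_not_scalar ha haa has hd hda hds hdne
  have hDi : ∀ u v, restrictForm B (plusSpace a) (D u) (D v) = restrictForm B (plusSpace a) u v := fun u v => by
    rw [restrictForm_apply, restrictForm_apply, hD, res_apply, res_apply, apply_comm haa h2 hda,
      apply_comm haa h2 hda, hR d hd]
  have hnz : ∀ {b : Module.End F (plusSpace a)}, b * b = 1 → ¬ IsScalarMap b → 0 < finrank F (plusSpace b) := by
    intro b hbb hbs
    by_contra hcon
    have hbot : plusSpace b = ⊥ := Submodule.finrank_eq_zero.1 (by omega)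
    have hP : proj b = 0 := LinearMap.ext fun v => (Submodule.mem_bot (R := F)).1 (hbot ▸ ⟨v, rfl⟩)
    rw [proj] at hP
    exact hbs ⟨-1, by
      rw [neg_smul, one_smul]
      exact eq_neg_of_add_eq_zero_right ((smul_eq_zero.1 hP).resolve_left (inv_ne_zero h2))⟩
  have hDD' : -D * -D = 1 := (neg_mul_neg D D).trans hDD
  obtain ⟨x, hx, hxx⟩ := hBW.exists_unit_in (nondegOn_plus hDD h2 hDi hNW) (hnz hDD hDs) (map_one σ)
  obtain ⟨y, hy, hyy⟩ := hBW.exists_unit_in (nondegOn_plus hDD' h2 (fun u v => by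
      rw [LinearMap.neg_apply, LinearMap.neg_apply, map_neg, map_neg, LinearMap.neg_apply, neg_neg]
      exact hDi u v) hNW)
    (hnz hDD' fun hs => hDs (by obtain ⟨c, hc⟩ := hs; exact ⟨-c, by rw [neg_smul, ← hc, neg_neg]⟩))
    (a := -1) (by rw [map_neg, map_one])
  obtain ⟨hxy, hyx⟩ := orth_plus_minus hDD h2 hDi hx hy
  have hDx : D x = x := a_apply_of_mem hDD h2 ⟨x, hx⟩
  have hDy : D y = -y := by
    have := a_apply_of_mem hDD' h2 ⟨y, hy⟩
    rw [LinearMap.neg_apply] at this
    exact neg_eq_iff_eq_neg.1 this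
  obtain ⟨w, hw⟩ : ∃ w : plusSpace a, w = x + y := ⟨_, rfl⟩
  obtain ⟨w', hw'⟩ : ∃ w' : plusSpace a, w' = x - y := ⟨_, rfl⟩
  have hDw' : D w = w' := by rw [hw, hw', map_add, hDx, hDy, sub_eq_add_neg]
  have hDw : D w' = w := by rw [hw, hw', map_sub, hDx, hDy, sub_neg_eq_add]
  have hww : BW w w = 0 := by rw [hw, hBW.add_self, hxx, hyy, hxy, map_zero]; ring
  have hww' : BW w' w' = 0 := by rw [← hDw', hDi, hww]
  have hindep : w ∉ Submodule.span F {w'} := by
    intro hm
    obtain ⟨l, hl⟩ := Submodule.mem_span_singleton.1 hm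
    have e1 := congrArg (BW x) hl
    have e2 := congrArg (BW y) hl
    simp only [hw, hw', map_smul, map_sub, map_add, hxx, hyy, hxy, hyx, smul_eq_mul] at e1 e2
    exact h2 (by linear_combination e2 - e1 + (1 - l) * hyx - (l + 1) * hxy)
  obtain ⟨u, huu, huw', huw⟩ : ∃ u, BW u u = 0 ∧ BW w' u = 0 ∧ BW w u ≠ 0 := by
    by_cases hc : BW w w' = 0
    · obtain ⟨u, e1, e2, e3⟩ := hBW.exists_partner_orth hNW hww hc hindep
      exact ⟨u, e1, e3, by rw [e2]; exact one_ne_zero⟩
    · exact ⟨w', hww', hww', hc⟩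
  obtain ⟨c, hc0, hc⟩ := hB.conj.exists_trace_zero
  obtain ⟨T, hT⟩ := hBW.exists_uTv hNW hww hc
  obtain ⟨Dg, hDg⟩ := hBW.exists_of_preserving hNW D hDi
  have hDgE : isoEnd Dg = D := LinearMap.ext fun z => by rw [isoEnd_apply, hDg]
  have hdet : T * Dg * T⁻¹ * Dg ∈ sIsom BW := MonoidHom.mem_ker.2 (by
    have e : Dg * Dg = 1 := Subtype.ext (LinearEquiv.ext fun z => by
      change Dg.1 (Dg.1 z) = z
      rw [hDg, hDg, ← Module.End.mul_apply, hDD, Module.End.one_apply])
    rw [map_mul, map_mul, map_mul, hBW.idet_uTv hT, map_inv, hBW.idet_uTv hT, inv_one, one_mul, mul_one,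
      ← map_mul, e, map_one])
  have hmK : (⟨_, hdet⟩ : sIsom BW) ∈ K := by
    obtain ⟨f, f', hf, f1, f2, fa, e⟩ := hall ⟨T, MonoidHom.mem_ker.2 (hBW.idet_uTv hT)⟩
    have f'a := comm_inv f1 f2 fa
    have e' : res a f' = isoEnd T⁻¹ := left_inv_eq_right_inv (a := isoEnd T)
      (by rw [← show res a f = isoEnd T from e, ← res_mul haa h2 fa, f2, res_one haa h2]) (isoEnd_mul_inv T)
    have hz1 := InG.conj hf (h.inG_lift_quarter hΓ ha haa hd hdd hda) f1
    rw [lift_conj haa h2 fa f1 f'a, ← hD] at hz1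
    have hz2 := h.inG_lift_quarter hΓ ha haa (h.neg_mem hd) (by rw [neg_mul_neg, hdd])
      (by rw [neg_mul, hda, mul_neg])
    rw [map_neg, ← hD] at hz2
    have := hz1.mul hz2
    rw [lift_mul haa h2, show res a f = isoEnd T from e, e'] at this
    simp only [mul_smul_comm, smul_mul_assoc, smul_smul, h.hi, mul_neg, smul_neg, neg_smul, one_smul, neg_neg] at this
    rw [hKmem]
    show InG Γ (lift a (isoEnd (T * Dg * T⁻¹ * Dg)))
    rwa [isoEnd_mul, isoEnd_mul, isoEnd_mul, hDgE]
  have hmove : ∀ l : F, (T * Dg * T⁻¹ * Dg).1 u ≠ l • u := by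
    intro l e
    have e1 : (T * Dg * T⁻¹ * Dg).1 u = u + (c * BW w u) • w := by
      change T.1 (Dg.1 ((T⁻¹ : isomGroup BW).1 (Dg.1 u))) = _
      have hTinv : (T⁻¹ : isomGroup BW).1 (Dg.1 u) = Dg.1 u := by
        change T.1.symm (Dg.1 u) = Dg.1 u
        rw [LinearEquiv.symm_apply_eq, hT.2.2, hDg]
        rw [← hDi w (D u), hDw', show D (D u) = u from LinearMap.congr_fun hDD u, huw', mul_zero, zero_smul,
          add_zero]
      rw [hTinv, hDg, hDg, show D (D u) = u from LinearMap.congr_fun hDD u, hT.2.2]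
    rw [e1] at e
    have e2 := congrArg (BW w) e
    simp only [map_add, map_smul, hww, smul_eq_mul, mul_zero, add_zero] at e2
    have hl : l = 1 := mul_right_cancel₀ huw (e2.symm.trans (one_mul _).symm)
    rw [hl, one_smul, add_eq_left, smul_eq_zero] at e
    rcases e with e | e
    · exact huw ((mul_eq_zero.1 e).resolve_left hc0)
    · exact hindep (e ▸ Submodule.zero_mem _)
  -- simplicity
  have hu0 : u ≠ 0 := fun e => huw (by rw [e, map_zero])
  haveI := hBW.isoPts_isPreprimitive hNW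
  have hfix : fixedPoints K (IsoPts BW) ≠ Set.univ := by
    intro hf
    have hp : isoPt BW hu0 huu ∈ fixedPoints K (IsoPts BW) := hf ▸ Set.mem_univ _
    have h3 : (⟨_, hdet⟩ : sIsom BW) • isoPt BW hu0 huu = isoPt BW hu0 huu := hp ⟨_, hmK⟩
    have h4 : (⟨_, hdet⟩ : sIsom BW) • Projectivization.mk F u hu0 = Projectivization.mk F u hu0 :=
      congrArg Subtype.val h3
    rw [sIsom_smul_mk, Projectivization.mk_eq_mk_iff'] at h4
    obtain ⟨l, hl⟩ := h4
    exact hmove l hl.symm
  have htop : K = ⊤ := top_le_iff.1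
    (hBW.sIsom_perfect hNW (.inr hdim) ▸ (hBW.sIwasawa hNW hex).commutator_le K hfix)
  intro g
  rw [← hKmem, htop]
  exact Subgroup.mem_top g

theorem inT_plus_of_lift {a : E} (ha : a ∈ R) (haa : a * a = 1)
    (hL : ∀ g : sIsom (restrictForm B (plusSpace a)), InG Γ (lift a (isoEnd g.1))) {w : V}
    (hw : w ∈ plusSpace a) (hww : B w w = 0) : InT B Γ w := by
  intro c hc
  have h2 := h.two_ne
  have hai := hR a ha
  have hBW := hB.restrict (plusSpace a)
  obtain ⟨T, hT⟩ := hBW.exists_uTv (restrictForm_separatingRight (nondegOn_plus haa h2 hai hN)) (v := ⟨w, hw⟩)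
    hww hc
  have := hL ⟨T, MonoidHom.mem_ker.2 (hBW.idet_uTv hT)⟩
  rwa [show isoEnd T = _ from isoEnd_uTv hT, lift_tv haa h2 hai] at this

include hσi

/-- All transvections, from those of one fixed space. -/
theorem inT_all {a : E} (ha : a ∈ R) (haa : a * a = 1) (has : ¬ IsScalarMap a)
    (hdim : 4 ≤ finrank F (plusSpace a))
    (hH : ∀ w ∈ plusSpace a, B w w = 0 → ∀ c : F, c + σ c = 0 →
      ∃ f : E, InG Γ f ∧ f * a = a * f ∧ ∀ x ∈ plusSpace a, f x = x + (c * B w x) • w) :
    ∀ v : V, B v v = 0 → InT B Γ v := by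
  classical
  have h2 := h.two_ne
  have hai := hR a ha
  have hLW := inG_lift_sIsom hB hN h hR hΓ ha haa has hdim hH
  have hW : ∀ w ∈ plusSpace a, B w w = 0 → InT B Γ w := fun w hw hww =>
    inT_plus_of_lift hB hN h hR hΓ ha haa hLW hw hww
  -- an anticommuting involution
  obtain ⟨y₀, hy₀, hy₀a⟩ := h.exists_anti ha has
  obtain ⟨k, hk, hkk, -, t, ht, hkt⟩ := h.exists_invol hy₀ (h.not_scalar_of_anti hy₀ ha (by rw [hy₀a, neg_neg]))
  have hka : k * a = -(a * k) := by
    refine smul_right_injective E ht ?_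
    rw [hkt, mul_smul_comm, smul_mul_assoc] at hy₀a
    simpa [smul_neg] using hy₀a
  have hki := hR k hk
  have hkW : ∀ {w : V}, w ∈ plusSpace a → k w ∈ plusSpace (-a) := by
    rintro _ ⟨v, rfl⟩
    refine ⟨k v, ?_⟩
    rw [← Module.End.mul_apply, ← Module.End.mul_apply]
    congr 1
    rw [proj, proj, mul_smul_comm, smul_mul_assoc, mul_add, add_mul, hka, mul_one, one_mul, neg_mul]
  have hkU : ∀ {u : V}, u ∈ plusSpace (-a) → k u ∈ plusSpace a := by
    rintro _ ⟨v, rfl⟩
    refine ⟨k v, ?_⟩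
    rw [← Module.End.mul_apply, ← Module.End.mul_apply]
    congr 1
    rw [proj, proj, mul_smul_comm, smul_mul_assoc, mul_add, add_mul, mul_neg, hka, mul_one, one_mul, neg_neg]
  have hkk' : ∀ v, k (k v) = v := fun v => LinearMap.congr_fun hkk v
  have hnaa : -a * -a = 1 := by rw [neg_mul_neg, haa]
  have hna := h.neg_mem ha
  have hnas : ¬ IsScalarMap (-a) := fun hs => has (by obtain ⟨c, hc⟩ := hs; exact ⟨-c, by rw [neg_smul, ← hc, neg_neg]⟩)
  have hU : ∀ u ∈ plusSpace (-a), B u u = 0 → InT B Γ u := fun u hu huu => by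
    rw [← hkk' u]
    exact (hW _ (hkU hu) (by rw [hki, huu])).map (hΓ.mem k hk) hki
  have hdimU : 4 ≤ finrank F (plusSpace (-a)) := by
    have := h.res_finrank ha haa has; have := h.res_finrank hna hnaa hnas; omega
  have hLU := inG_lift_sIsom hB hN h hR hΓ hna hnaa hnas hdimU fun u hu huu c hc => by
    refine ⟨tvMap B u c, hU u hu huu c hc, ?_, fun x _ => tvMap_apply u c x⟩
    have eu : a u = -u := by
      have := a_apply_of_mem hnaa h2 ⟨u, hu⟩
      rw [LinearMap.neg_apply] at this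
      exact neg_eq_iff_eq_neg.1 this
    refine LinearMap.ext fun x => ?_
    rw [mul_neg, neg_mul, LinearMap.neg_apply, LinearMap.neg_apply, Module.End.mul_apply, Module.End.mul_apply,
      tvMap_apply, tvMap_apply, map_add, map_smul, eu, ← adjoint_invol haa h2 hai, eu, map_neg,
      LinearMap.neg_apply]
    module
  -- moving the two components
  have move : ∀ w₀ ∈ plusSpace a, ∀ w ∈ plusSpace a, ∀ u₀ ∈ plusSpace (-a), ∀ u ∈ plusSpace (-a),
      w₀ ≠ 0 → w ≠ 0 → u₀ ≠ 0 → u ≠ 0 → B w₀ w₀ = B w w → B u₀ u₀ = B u u → InT B Γ (w₀ + u₀) →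
        InT B Γ (w + u) := by
    intro w₀ hw₀ w hw u₀ hu₀ u hu n1 n2 n3 n4 e1 e2 hT
    obtain ⟨g, hg⟩ := exists_sIsom_map (hB.restrict (plusSpace a))
      (restrictForm_separatingRight (nondegOn_plus haa h2 hai hN)) hdim (x := ⟨w₀, hw₀⟩) (y := ⟨w, hw⟩)
      (fun e => n1 (congrArg Subtype.val e)) (fun e => n2 (congrArg Subtype.val e)) e1
    have hnai : ∀ u v, B ((-a) u) ((-a) v) = B u v := hR _ hna
    obtain ⟨g₂, hg₂⟩ := exists_sIsom_map (hB.restrict (plusSpace (-a)))
      (restrictForm_separatingRight (nondegOn_plus hnaa h2 hnai hN)) hdimU (x := ⟨u₀, hu₀⟩) (y := ⟨u, hu⟩)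
      (fun e => n3 (congrArg Subtype.val e)) (fun e => n4 (congrArg Subtype.val e)) e2
    have h5 := (hT.map (hLW g) (lift_isometry haa h2 hai g.1)).map (hLU g₂) (lift_isometry hnaa h2 hnai g₂.1)
    have l1 : lift a (isoEnd g.1) w₀ = w := by
      rw [lift_coe haa h2 ⟨w₀, hw₀⟩, isoEnd_apply, hg]
    have l2 : lift (-a) (isoEnd g₂.1) u₀ = u := by
      rw [lift_coe hnaa h2 ⟨u₀, hu₀⟩, isoEnd_apply, hg₂]
    rwa [map_add, l1, lift_minus haa h2 hu₀, map_add, l2,
      lift_minus hnaa h2 (show w ∈ plusSpace (- -a) by rwa [neg_neg])] at h5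
  -- a hyperbolic pair and its copy
  have hWn := nondegOn_plus haa h2 hai hN
  obtain ⟨e, heW, he0, hee⟩ : ∃ e ∈ plusSpace a, e ≠ 0 ∧ B e e = 0 := hB.exists_isotropic hWn (by omega)
  obtain ⟨e', he'W, he'e', hee'⟩ := hB.exists_partner hWn heW he0 hee
  have hje : i • k e ∈ plusSpace (-a) := Submodule.smul_mem _ _ (hkW heW)
  have hje' : i • k e' ∈ plusSpace (-a) := Submodule.smul_mem _ _ (hkW he'W)
  have hii : σ i * i = 1 := by rw [hσi, neg_mul, h.hi, neg_neg]
  have hB1 : ∀ p q, B (i • k p) (i • k q) = B p q := fun p q => by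
    simp only [map_smulₛₗ, LinearMap.smul_apply, RingHom.id_apply, smul_eq_mul, hki]
    linear_combination (B p q) * hii
  have hq : InT B Γ (e + i • k e) := by
    have h5 := (hW e heW hee).transport (hΓ.quarter k hk hkk) h2 (map_ofNat σ 2) fun u v => by
      simp only [quarter, LinearMap.add_apply, Module.End.one_apply, LinearMap.smul_apply, map_add, map_smulₛₗ,
        map_smul, smul_eq_mul, hki, hσi, adjoint_invol hkk h2 hki, RingHom.id_apply]
      linear_combination (-(B u v)) * h.hi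
    simpa [quarter] using h5
  have hiso : ∀ w ∈ plusSpace a, ∀ u ∈ plusSpace (-a), w ≠ 0 → u ≠ 0 → B w w = 0 → B u u = 0 →
      InT B Γ (w + u) := fun w hw u hu n2 n4 e1 e2 =>
    move e heW w hw _ hje u hu he0 n2 (fun e0 => he0 (by
      have := congrArg (fun z => k ((σ i) • z)) e0
      simpa [smul_smul, hii, hkk'] using this)) n4 (by rw [hee, e1]) (by rw [hB1, hee, e2]) hq
  -- a seed of each length
  have hseed : ∀ α : F, σ α = α → α ≠ 0 →
      ∃ w ∈ plusSpace a, ∃ u ∈ plusSpace (-a), B w w = α ∧ B u u = -α ∧ InT B Γ (w + u) := by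
    intro α hα hα0
    obtain ⟨c, hc0, hc⟩ := hB.conj.exists_trace_zero
    obtain ⟨z, hz⟩ := hB.conj.exists_trace_eq (a := α) hα
    obtain ⟨s, hs⟩ : ∃ s : F, σ s = z / c := ⟨σ (z / c), hB.conj.invol _⟩
    have hs0 : s ≠ 0 := by
      rintro rfl
      rw [map_zero, eq_comm, div_eq_zero_iff] at hs
      rw [hs.resolve_right hc0, map_zero, add_zero] at hz
      exact hα0 hz.symm
    have hsu : s • (i • k e) ∈ plusSpace (-a) := Submodule.smul_mem _ _ hje
    have hsu0 : s • (i • k e) ≠ 0 := fun e0 => he0 (by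
      have := congrArg (fun x => k ((σ i) • s⁻¹ • x)) e0
      simpa [smul_smul, hii, hkk', hs0] using this)
    have hT := hiso e heW _ hsu he0 hsu0 hee (by rw [hB.smul_self, hB1, hee, mul_zero]) c hc
    have hor : ∀ {p q : V}, p ∈ plusSpace a → q ∈ plusSpace (-a) → B p q = 0 ∧ B q p = 0 :=
      fun hp hq' => orth_plus_minus haa h2 hai hp hq'
    have hv : InT B Γ (e' + i • k e') := hiso e' he'W _ hje'
      (fun e0 => by rw [e0, map_zero] at hee'; exact zero_ne_one hee')
      (fun e0 => by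
        have := hB1 e e'
        rw [e0, map_zero, hee'] at this
        exact zero_ne_one this) he'e' (by rw [hB1, he'e'])
    have hiso' : ∀ u v, B (tvMap B (e + s • (i • k e)) c u) (tvMap B (e + s • (i • k e)) c v) = B u v := fun u v => by
      obtain ⟨T, hT'⟩ := hB.exists_uTv hN (v := e + s • (i • k e)) (c := c) (by
        rw [hB.add_self, (hor heW hsu).1, map_zero, add_zero, hee, hB.smul_self, hB1, hee, mul_zero, add_zero,
          add_zero]) hc
      rw [← isoEnd_uTv hT', isoEnd_apply, isoEnd_apply, isomGroup_apply]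
    obtain ⟨τ, hτ⟩ : ∃ τ : F, τ = c * (1 + z / c) := ⟨_, rfl⟩
    refine ⟨e' + τ • e, Submodule.add_mem _ he'W (Submodule.smul_mem _ _ heW),
      i • k e' + τ • (s • (i • k e)), Submodule.add_mem _ hje' (Submodule.smul_mem _ _ hsu), ?_, ?_, ?_⟩
    · rw [hB.add_self, he'e', hB.smul_self, hee, mul_zero, zero_add, zero_add, map_smul, smul_eq_mul,
        ← hB.symm e e', hee', map_one, mul_one, hτ, mul_add, mul_one, mul_div_cancel₀ _ hc0, map_add]
      linear_combination hc + hz
    · have hcz : τ * (σ (z / c)) = (c * σ (z / c) + c * (z / c * σ (z / c))) := by rw [hτ]; ring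
      rw [hB.add_self, hB1, he'e', hB.smul_self, hB.smul_self, hB1, hee, mul_zero, mul_zero, zero_add, zero_add,
        map_smul, smul_eq_mul, map_smul, smul_eq_mul, hB1, ← hB.symm e e', hee', map_one, mul_one,
        show s = σ (z / c) by rw [← hs, hB.conj.invol], hcz, map_add, map_mul, map_mul, map_mul, hB.conj.invol]
      have hσz : σ z = α - z := by linear_combination hz
      have hσc : σ c = -c := by linear_combination hc
      rw [hσc, map_div₀, hσz, hσc]
      field_simp
      ring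
    · have h5 := hv.map hT hiso'
      rw [tvMap_apply] at h5
      have e1 : B (e + s • (i • k e)) (e' + i • k e') = 1 + z / c := by
        rw [map_add, map_add, LinearMap.add_apply, LinearMap.add_apply, map_smulₛₗ, LinearMap.smul_apply,
          LinearMap.smul_apply, hee', (hor heW hje').1, (hor he'W hje).2, hB1, hee', hs, smul_eq_mul, smul_eq_mul,
          mul_zero, mul_one, add_zero, zero_add]
      rw [e1, ← hτ] at h5
      rw [show e' + τ • e + (i • k e' + τ • s • i • k e) = e' + i • k e' + τ • (e + s • i • k e) by module]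
      exact h5
  intro v hv
  have hsplit := split_vec haa h2 v
  obtain ⟨w, hwdef⟩ : ∃ w, w = proj a v := ⟨_, rfl⟩
  obtain ⟨u, hudef⟩ : ∃ u, u = proj (-a) v := ⟨_, rfl⟩
  have hw : w ∈ plusSpace a := hwdef ▸ ⟨v, rfl⟩
  have hu : u ∈ plusSpace (-a) := hudef ▸ ⟨v, rfl⟩
  rw [← hwdef, ← hudef] at hsplit
  subst hsplit
  rw [hB.add_self, (orth_plus_minus haa h2 hai hw hu).1, map_zero, add_zero, add_zero] at hv
  by_cases hw0 : w = 0
  · subst hw0
    rw [zero_add]
    exact hU u hu (by simpa using hv)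
  by_cases hu0 : u = 0
  · subst hu0
    rw [add_zero]
    exact hW w hw (by simpa using hv)
  by_cases hww : B w w = 0
  · exact hiso w hw u hu hw0 hu0 hww (by simpa [hww] using hv)
  obtain ⟨w₁, hw₁, u₁, hu₁, l1, l2, hT⟩ := hseed _ (hB.self_fixed w) hww
  refine move w₁ hw₁ w hw u₁ hu₁ u hu (fun e0 => hww ?_) hw0 (fun e0 => hww ?_) hu0 l1
    (by rw [l2]; linear_combination -hv) hT
  · rw [← l1, e0, map_zero]
  · have := l2
    rw [e0, map_zero] at this
    exact neg_eq_zero.1 this.symm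

end group

end CfsgLib.Classical.PauliForm.Herm
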